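import Groth.Agent.HensScheme.Charts
import Groth.Agent.HensPair.Universal
import Groth.Agent.SitesTopoi.Mod.SpaceFlat
import Groth.Agent.SitesTopoi.Mod.PullMono
import Groth.Agent.PropsBasic2.TildeExact

/-! The henselization map is flat. -/

set_option autoImplicit false
set_option backward.isDefEq.respectTransparency false
set_option backward.isDefEq.respectTransparency.types false
set_option maxHeartbeats 1000000

universe u

open CategoryTheory CategoryTheory.Limits Opposite TopologicalSpace AlgebraicGeometry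

noncomputable section

namespace Groth.HensScheme

section Sph

variable {A : Type u} [CommRing A] {I : Ideal A} {U : LocallyRingedSpace.{u}}
  {π : U ⟶ HensSch.specLRS A}

/-- Sections over a distinguished open are flat over the localization. -/
theorem flat_appR_basicOpen {f : A}
    (h : HensSch.IsHensAway A I f (U.presheaf.obj (op (HensSch.dOpen π f)) : Type u)
      (HensSch.secMap π (PrimeSpectrum.basicOpen f))) :
    RingHom.Flat (appR π (PrimeSpectrum.basicOpen f)) := by
  let πD := appR π (PrimeSpectrum.basicOpen f)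
  let α := α₀ (A := A) (PrimeSpectrum.basicOpen f)
  have hcomp : πD.comp α = HensSch.secMap π (PrimeSpectrum.basicOpen f) :=
    RingHom.ext fun a => (secMap_eq π _ a).symm
  let := πD.toAlgebra
  have hB : Hens2.IsPairHenselization _ (I.map α) (U.presheaf.obj (op (HensSch.dOpen π f)) : Type u) := by
    refine ⟨?_, fun C _ J g hC hJ => ?_⟩
    · have := h.2.1
      rw [← hcomp, ← Ideal.map_map] at this
      exact this
    · obtain ⟨h₀, hh₀, huniq⟩ := h.2.2 C J (g.comp α) hC
        ((Ideal.map_map (I := I) α g).symm.trans_le hJ) ((isUnit_α₀ rfl).map g)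
      refine ⟨h₀, ?_, fun h' hh' => huniq h' ?_⟩
      · refine hom_ext_basicOpen rfl ?_
        rw [← hh₀, ← hcomp]
        rfl
      · show h'.comp _ = _
        rw [← hcomp, ← RingHom.comp_assoc]
        exact congrArg (RingHom.comp · α) hh'
  exact Groth.HensPair.flat_of_isPairHenselization hB

end Sph

/-- Around each point of `Y` there are small opens with flat sections upstairs. -/
theorem exists_flat_good {X : Scheme.{u}} {Y : Set X} {Xh : LocallyRingedSpace.{u}}
    {ι : Xh ⟶ X.toLocallyRingedSpace} (hh : HensSch.IsHenselizationAlong X Y Xh ι)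
    (w : Xh) (O : Opens X.toLocallyRingedSpace) (hyO : ι.base w ∈ O) :
    ∃ U', ι.base w ∈ U' ∧ U' ≤ O ∧ RingHom.Flat (appR ι U') := by
  obtain ⟨-, -, hrangeι, hcharts⟩ := hh
  obtain ⟨A, _, j, hj, ⟨t, ht⟩, V, v, hv, π, hvr, hcomp, hπ, hπr, hsph⟩ :=
    hcharts (ι.base w) (hrangeι ▸ ⟨w, rfl⟩)
  obtain ⟨_, ⟨f, rfl⟩, htf, hfO⟩ := PrimeSpectrum.isTopologicalBasis_basic_opens.exists_subset_of_mem_open
    (show t ∈ j.base ⁻¹' SetLike.coe O from (congrArg (fun y => y ∈ O) ht).mpr hyO)
    (O.2.preimage j.base.hom.continuous)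
  let U' : Opens X.toLocallyRingedSpace := j ''ᵁ PrimeSpectrum.basicOpen f
  refine ⟨U', ⟨t, htf, ht⟩, by rintro _ ⟨s, hs, rfl⟩; exact hfO hs, ?_⟩
  have hjU : (Opens.map j.toLRSHom.base).obj U' = PrimeSpectrum.basicOpen f := by
    ext s
    constructor
    · rintro ⟨s', hs', he⟩
      rw [← j.isOpenEmbedding.injective he]
      exact hs'
    · exact fun hs => ⟨s, hs, rfl⟩
  have hUj : SetLike.coe U' ⊆ Set.range j.base := by rintro _ ⟨s, -, rfl⟩; exact ⟨s, rfl⟩
  have : LocallyRingedSpace.IsOpenImmersion j.toLRSHom := hj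
  let ej := RingEquiv.ofBijective ((res hjU.ge).comp (appR j.toLRSHom U'))
    ((bijective_res hjU.ge hjU.le).comp (bijective_appR j.toLRSHom U' hUj))
  have hvU : (Opens.map v.base).obj ((Opens.map ι.base).obj U') = HensSch.dOpen π f := by
    ext z
    show ι.base (v.base z) ∈ U' ↔ π.base z ∈ PrimeSpectrum.basicOpen f
    rw [show ι.base (v.base z) = j.base (π.base z) from
      congrArg (fun m : V ⟶ X.toLocallyRingedSpace => m.base z) hcomp]
    exact Set.ext_iff.mp (congrArg (fun W : Opens _ => (W : Set _)) hjU) (π.base z)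
  have hιv : SetLike.coe ((Opens.map ι.base).obj U') ⊆ Set.range v.base := by
    rw [hvr]
    exact fun z hz => hUj hz
  let θ := RingEquiv.ofBijective ((res hvU.ge).comp (appR v ((Opens.map ι.base).obj U')))
    ((bijective_res hvU.ge hvU.le).comp (bijective_appR v _ hιv))
  let πD : (((Spec (CommRingCat.of A)).toLocallyRingedSpace).presheaf.obj
      (op (PrimeSpectrum.basicOpen f)) : Type u) →+* _ := appR π (PrimeSpectrum.basicOpen f)
  have hsq : ∀ s, θ (appR ι U' s) = πD (ej s) := by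
    intro s
    have e1 : (Opens.map (π ≫ j.toLRSHom).base).obj U' ≤ (Opens.map (v ≫ ι).base).obj U' := by
      rw [hcomp]
    have h1 := comm_app hcomp U' s e1
    show res hvU.ge (appR (v ≫ ι) U' s) = appR π _ (res hjU.ge (appR j.toLRSHom U' s))
    rw [show appR π (PrimeSpectrum.basicOpen f) (res hjU.ge (appR j.toLRSHom U' s)) =
      res _ (appR π ((Opens.map j.toLRSHom.base).obj U') (appR j.toLRSHom U' s)) from app_res π _ _]
    show _ = res _ (appR (π ≫ j.toLRSHom) U' s)
    rw [← h1]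
    exact (res_res (X := V) _ _ _).symm
  have : appR ι U' = θ.symm.toRingHom.comp (πD.comp ej.toRingHom) := RingHom.ext fun s =>
    (θ.symm_apply_eq.mpr (hsq s).symm).symm
  rw [this]
  exact RingHom.Flat.comp
    (RingHom.Flat.comp (RingHom.Flat.of_bijective ej.bijective) (flat_appR_basicOpen (hsph f)))
    (RingHom.Flat.of_bijective θ.symm.bijective)

open Groth.SitesTopoi.SpaceFlat in
/-- Flatness on a basis of opens gives flat maps on stalks. -/
theorem flat_stalkMap {Xh X : LocallyRingedSpace.{u}} (ι : Xh ⟶ X) (hι : Topology.IsEmbedding ι.base)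
    (hX : ∀ (w : Xh) (O : Opens X), ι.base w ∈ O → ∃ U', ι.base w ∈ U' ∧ U' ≤ O ∧ RingHom.Flat (appR ι U'))
    (x : Xh) :
    (stalkMapAt ι.base (O_X := Xh.sheaf) (O_Y := X.sheaf) ⟨ι.c⟩ x).hom.Flat := by
  let φ : (X.presheaf.stalk (ι.base x) : Type u) →+* (Xh.presheaf.stalk x : Type u) :=
    (stalkMapAt ι.base (O_X := Xh.sheaf) (O_Y := X.sheaf) ⟨ι.c⟩ x).hom
  let := φ.toAlgebra
  show Module.Flat (X.presheaf.stalk (ι.base x)) (Xh.presheaf.stalk x)
  rw [Module.Flat.iff_forall_isTrivialRelation]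
  intro l r m hrel
  obtain ⟨W, hW, -, r', hr'⟩ := exists_lifts X.presheaf (ι.base x) r ⊤ trivial
  obtain ⟨V, hV, hVle, m', hm'⟩ := exists_lifts Xh.presheaf x m ((Opens.map ι.base).obj W) hW
  have hφg : ∀ (W₁ : Opens X) (hW₁ : ι.base x ∈ W₁) (t : (X.presheaf.obj (op W₁) : Type u)),
      φ (X.presheaf.germ W₁ (ι.base x) hW₁ t) =
        Xh.presheaf.germ ((Opens.map ι.base).obj W₁) x hW₁ (appR ι W₁ t) := fun W₁ hW₁ t =>
    congrArg (fun ψ => ψ.hom t)
      (PresheafedSpace.stalkMap_germ (X := Xh.toPresheafedSpace) (Y := X.toPresheafedSpace) ι.toHom W₁ x hW₁)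
  have hsum : Xh.presheaf.germ V x hV (∑ i, res hVle (appR ι W (r' i)) * m' i) =
      Xh.presheaf.germ V x hV 0 := by
    rw [map_zero, map_sum, ← hrel]
    refine Finset.sum_congr rfl fun i _ => ?_
    rw [map_mul, hm', Algebra.smul_def, RingHom.algebraMap_toAlgebra, ← hr', hφg W hW]
    exact congrArg (· * m i)
      (TopCat.Presheaf.germ_res_apply Xh.presheaf (homOfLE hVle) x hV (appR ι W (r' i)))
  obtain ⟨V₁, hV₁, i₁, i₁x, e₁⟩ := TopCat.Presheaf.germ_eq Xh.presheaf x hV hV _ _ hsum
  rw [map_zero] at e₁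
  obtain ⟨O, hO, hOeq⟩ := hι.isInducing.isOpen_iff.mp V₁.2
  obtain ⟨U', hxU', hU'le, hflat⟩ := hX x (⟨O, hO⟩ ⊓ W)
    ⟨(Set.ext_iff.mp hOeq x).mpr hV₁, hW⟩
  have hP1 : (Opens.map ι.base).obj U' ≤ V₁ := fun z hz => (Set.ext_iff.mp hOeq z).mp (hU'le hz).1
  have hPV : (Opens.map ι.base).obj U' ≤ V := hP1.trans i₁.le
  have hU'W : U' ≤ W := hU'le.trans inf_le_right
  let := (appR ι U').toAlgebra
  have : Module.Flat (X.presheaf.obj (op U') : Type u)
      (Xh.presheaf.obj (op ((Opens.map ι.base).obj U')) : Type u) := hflat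
  have hloc : ∑ i, res hU'W (r' i) • res hPV (m' i) = 0 := by
    have e := congrArg (res hP1) (show res i₁.le (∑ i, res hVle (appR ι W (r' i)) * m' i) = 0 from e₁)
    rw [map_zero, res_res, map_sum] at e
    refine Eq.trans (Finset.sum_congr rfl fun i _ => ?_) e
    rw [map_mul, res_res, Algebra.smul_def, RingHom.algebraMap_toAlgebra]
    congr 1
    exact (app_res ι hU'W (r' i)).trans rfl
  obtain ⟨k, a, y, hy, ha⟩ := Module.Flat.iff_forall_isTrivialRelation.1 this hloc
  let g₁ := (X.presheaf.germ U' (ι.base x) hxU').hom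
  let g₂ := (Xh.presheaf.germ ((Opens.map ι.base).obj U') x hxU').hom
  refine ⟨k, fun i j => g₁ (a i j), fun j => g₂ (y j), fun i => ?_, fun j => ?_⟩
  · have h1 : g₂ (res hPV (m' i)) = m i :=
      (TopCat.Presheaf.germ_res_apply Xh.presheaf (homOfLE hPV) x hxU' (m' i)).trans (hm' i)
    rw [← h1, show res hPV (m' i) = _ from hy i, map_sum]
    refine Finset.sum_congr rfl fun j _ => ?_
    rw [Algebra.smul_def, Algebra.smul_def, RingHom.algebraMap_toAlgebra, RingHom.algebraMap_toAlgebra,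
      map_mul, hφg U' hxU']
  · have h2 := congrArg g₁ (ha j)
    rw [map_zero, map_sum] at h2
    refine Eq.trans (Finset.sum_congr rfl fun i _ => ?_) h2
    rw [map_mul, show g₁ (res hU'W (r' i)) = r i from
      (TopCat.Presheaf.germ_res_apply X.presheaf (homOfLE hU'W) (ι.base x) hxU' (r' i)).trans (hr' i)]

theorem preservesFiniteLimits_pullMod {Xh X : LocallyRingedSpace.{u}} (ι : Xh ⟶ X)
    (hι : Topology.IsEmbedding ι.base)
    (hX : ∀ (w : Xh) (O : Opens X), ι.base w ∈ O → ∃ U', ι.base w ∈ U' ∧ U' ≤ O ∧ RingHom.Flat (appR ι U')) :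
    PreservesFiniteLimits (HensSch.pullMod ι) :=
  Groth.SitesTopoi.ModH.preservesFiniteLimits_pull_of_flat (f := HensSch.rmor ι)
    (Groth.SitesTopoi.SpaceFlat.isFlat_baseMod ι.base (O_X := Xh.sheaf) (O_Y := X.sheaf) ⟨ι.c⟩
      fun x => flat_stalkMap ι hι hX x)

theorem preservesFiniteLimits_pullMod_henselization {X : Scheme.{u}} {Y : Set X}
    {Xh : LocallyRingedSpace.{u}} {ι : Xh ⟶ X.toLocallyRingedSpace}
    (hh : HensSch.IsHenselizationAlong X Y Xh ι) : PreservesFiniteLimits (HensSch.pullMod ι) :=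
  preservesFiniteLimits_pullMod ι hh.2.1 (exists_flat_good hh)

theorem preservesFiniteLimits_sphTilde {A : Type u} [CommRing A] {I : Ideal A}
    {U : LocallyRingedSpace.{u}} (π : U ⟶ HensSch.specLRS A) (hU : HensSch.IsSph A I U π) :
    PreservesFiniteLimits (HensSch.sphTildeFunctor π) := by
  have := preservesFiniteLimits_pullMod π hU.1 fun w O hO => by
    obtain ⟨_, ⟨f, rfl⟩, hwf, hfO⟩ := PrimeSpectrum.isTopologicalBasis_basic_opens.exists_subset_of_mem_open
      (show π.base w ∈ SetLike.coe O from hO) O.2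
    exact ⟨PrimeSpectrum.basicOpen f, hwf, hfO, flat_appR_basicOpen (hU.2.2 f)⟩
  have : PreservesFiniteLimits (tilde.functor (CommRingCat.of A)) :=
    Groth.PropsBasic2.preservesFiniteLimits_tilde _
  exact @comp_preservesFiniteLimits _ _ _ _ _ _ (tilde.functor (CommRingCat.of A)) (HensSch.pullMod π)
    ‹_› ‹_›

end Groth.HensScheme
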