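import Groth.Agent.HensScheme.PullStalk
import Groth.Agent.HensScheme.Flat

/-!
# The inverse image to the henselization is faithful on quasi-coherent modules
-/

set_option autoImplicit false
set_option backward.isDefEq.respectTransparency.types false
set_option maxHeartbeats 1000000
universe u

open CategoryTheory Limits AlgebraicGeometry Opposite TopologicalSpace TensorProduct

namespace Groth.HensScheme

variable {X : Scheme.{u}} {Y : Set X} {Xh : LocallyRingedSpace.{u}} {ι : Xh ⟶ X.toLocallyRingedSpace}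

theorem faithfullyFlat_stalkMap (hh : HensSch.IsHenselizationAlong X Y Xh ι) (z : Xh) :
    letI := lrsStalkAlg ι z
    Module.FaithfullyFlat (X.presheaf.stalk (ι.base z) : Type u) (Xh.presheaf.stalk z : Type u) := by
  letI := lrsStalkAlg ι z
  have : Module.Flat (X.presheaf.stalk (ι.base z) : Type u) (Xh.presheaf.stalk z : Type u) :=
    flat_stalkMap ι hh.2.1 (exists_flat_good hh) z
  have : IsLocalHom (algebraMap (X.presheaf.stalk (ι.base z) : Type u) (Xh.presheaf.stalk z : Type u)) :=
    inferInstanceAs (IsLocalHom (ι.stalkMap z).hom)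
  exact Module.FaithfullyFlat.of_flat_of_isLocalHom

/-- At the points of the henselization the germ of a module maps injectively to its inverse image. -/
theorem gpullGerm_injective (hh : HensSch.IsHenselizationAlong X Y Xh ι) (M : X.Modules) (z : Xh) :
    Function.Injective (gpullGerm ι M z) := by
  letI := lrsStalkAlg ι z
  have := faithfullyFlat_stalkMap hh z
  intro a b h
  have h' : ((1 : (Xh.presheaf.stalk z : Type u)) ⊗ₜ[(X.presheaf.stalk (ι.base z) : Type u)] a) = 1 ⊗ₜ b := by
    apply (gpullStalkHom_bijective ι M z).1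
    rw [gpullStalkHom_tmul, gpullStalkHom_tmul, one_smul, one_smul, h]
  exact Module.FaithfullyFlat.tensorProduct_mk_injective (A := (X.presheaf.stalk (ι.base z) : Type u))
    (B := (Xh.presheaf.stalk z : Type u)) _ h'

theorem germ_app_eq_of_pullMod_map_eq (hh : HensSch.IsHenselizationAlong X Y Xh ι) {F G : X.Modules}
    {φ ψ : F ⟶ G} (h : (HensSch.pullMod ι).map φ = (HensSch.pullMod ι).map ψ) {y : X} (hy : y ∈ Y)
    {U : X.Opens} (hU : y ∈ U) (m : Γ(F, U)) :
    QCohMod.germ G y hU (φ.app U m) = QCohMod.germ G y hU (ψ.app U m) := by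
  obtain ⟨z, rfl⟩ : y ∈ Set.range ι.base := hh.2.2.1.symm ▸ hy
  refine gpullGerm_injective hh G z ?_
  rw [gpullGerm_germ, gpullGerm_germ]
  congr 1
  have nat : ∀ χ : F ⟶ G, gpullSec ι G U (χ.app U m) =
      ((HensSch.pullMod ι).map χ).val.app (op ((Opens.map ι.base).obj U)) (gpullSec ι F U m) := fun χ =>
    congr((SheafOfModules.Hom.val $((HensSch.pullPushAdj ι).unit.naturality χ)).app (op U) m)
  rw [nat φ, nat ψ, h]

theorem exists_specializes_mem [CompactSpace X] (hY : ∀ x : X, IsClosed ({x} : Set X) → x ∈ Y) (x : X) :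
    ∃ y ∈ Y, x ⤳ y := by
  obtain ⟨y, hy, hyc⟩ := IsClosed.exists_closed_singleton (S := closure {x}) isClosed_closure
    ⟨x, subset_closure (Set.mem_singleton x)⟩
  exact ⟨y, hY y hyc, specializes_iff_mem_closure.2 hy⟩

/-- Morphisms out of a quasi-coherent module are determined by their germs at points of `Y`, if every
point specializes to a point of `Y`. -/
theorem hom_eq_of_germ_eq (hY : ∀ x : X, ∃ y ∈ Y, x ⤳ y) {F G : X.Modules} [F.IsQuasicoherent] (φ ψ : F ⟶ G)
    (h : ∀ (y : X) (_ : y ∈ Y) (U : X.Opens) (hU : y ∈ U) (m : Γ(F, U)),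
      QCohMod.germ G y hU (φ.app U m) = QCohMod.germ G y hU (ψ.app U m)) : φ = ψ := by
  refine Scheme.Modules.hom_ext _ _ fun W => ?_
  refine AddCommGrpCat.hom_ext (AddMonoidHom.ext fun m => ?_)
  refine TopCat.Presheaf.section_ext (⟨G.presheaf, G.isSheaf⟩ : TopCat.Sheaf AddCommGrpCat X) W _ _ fun x hx => ?_
  obtain ⟨y, hy, hxy⟩ := hY x
  obtain ⟨U, hU, hyU, -⟩ := exists_isAffineOpen_mem_and_subset (U := (⊤ : X.Opens)) (x := y) trivial
  have hxU : x ∈ U := hxy.mem_open U.2 hyU
  obtain ⟨a, m', hxa, hm'⟩ := QCohMod.exists_smul_germ_eq F hU x hxU (QCohMod.germ F x hx m)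
  have hua : IsUnit (X.presheaf.germ U x hxU a) := (Scheme.mem_basicOpen X a x hxU).1 hxa
  have key : QCohMod.germ G x hxU (φ.app U m') = QCohMod.germ G x hxU (ψ.app U m') := by
    obtain ⟨V, hyV, i, i', e⟩ := TopCat.Presheaf.germ_eq G.presheaf y hyU hyU _ _
      (h y hy U hyU m')
    have hxV : x ∈ V := hxy.mem_open V.2 hyV
    have := congrArg (G.presheaf.germ V x hxV) e
    rwa [TopCat.Presheaf.germ_res_apply, TopCat.Presheaf.germ_res_apply] at this
  have hχ : ∀ χ : F ⟶ G, X.presheaf.germ U x hxU a • QCohMod.germ G x hx (χ.app W m) =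
      QCohMod.germ G x hxU (χ.app U m') := by
    intro χ
    have hxW : x ∈ U ⊓ W := ⟨hxU, hx⟩
    obtain ⟨V, hxV, i, i', e⟩ := TopCat.Presheaf.germ_eq F.presheaf x hxW hxU
      ((X.presheaf.map (homOfLE (inf_le_left : U ⊓ W ≤ U)).op a) • QCohMod.res F (inf_le_right : U ⊓ W ≤ W) m) m'
      (by
        refine Eq.trans ?_ hm'
        show QCohMod.germ F x hxW _ = _
        rw [QCohMod.germ_smul, QCohMod.germ_res, TopCat.Presheaf.germ_res_apply])
    have hl : QCohMod.germ G x hxW (χ.app (U ⊓ W)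
        ((X.presheaf.map (homOfLE (inf_le_left : U ⊓ W ≤ U)).op a) • QCohMod.res F (inf_le_right : U ⊓ W ≤ W) m)) =
        X.presheaf.germ U x hxU a • QCohMod.germ G x hx (χ.app W m) := by
      rw [Scheme.Modules.Hom.app_smul, QCohMod.germ_smul, TopCat.Presheaf.germ_res_apply, ← QCohMod.res_app,
        QCohMod.germ_res]
    rw [← hl, ← QCohMod.stalk_map_germ, ← QCohMod.stalk_map_germ]
    congr 1
    exact TopCat.Presheaf.germ_ext F.presheaf V hxV i i' e
  exact hua.smul_left_cancel.1 ((hχ φ).trans (key.trans (hχ ψ).symm))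

theorem pullMod_map_injective [CompactSpace X] (hY : ∀ x : X, IsClosed ({x} : Set X) → x ∈ Y)
    (hh : HensSch.IsHenselizationAlong X Y Xh ι) (F G : X.Modules) [F.IsQuasicoherent] :
    Function.Injective
      ((HensSch.pullMod ι).map : (F ⟶ G) → ((HensSch.pullMod ι).obj F ⟶ (HensSch.pullMod ι).obj G)) :=
  fun φ ψ h => hom_eq_of_germ_eq (exists_specializes_mem hY) φ ψ fun _ hy _ hU m =>
    germ_app_eq_of_pullMod_map_eq hh h hy hU m

end Groth.HensScheme
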