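import Groth.Agent.HensScheme.StalkHens
import Groth.Agent.HensScheme.Faithful
import Groth.Agent.HensPair.Truncation
import Groth.Agent.EtaleAlgebra.PairNoeth
import Groth.Agent.CohC3.QuotSections
import Groth.Agent.QCohMod.FiniteType

/-!
# Stalks of the `I`-adic henselization of a locally Noetherian scheme
-/

set_option autoImplicit false
set_option backward.isDefEq.respectTransparency.types false
set_option maxHeartbeats 1000000

universe u

open CategoryTheory CategoryTheory.Limits AlgebraicGeometry Opposite TopologicalSpace TensorProduct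
open Groth.CohC3 (baseApp baseApp_res IsQuot isQuot_modPowπ)

noncomputable section

namespace Groth.HensScheme

variable {A : Type u} [CommRing A] {X : Scheme.{u}} [X.Over (Spec (CommRingCat.of A))] (I : Ideal A)

/-- The preimage of `V(I)`. -/
abbrev adicLocus : Set X :=
  (X ↘ Spec (CommRingCat.of A)).base ⁻¹' PrimeSpectrum.zeroLocus (I : Set A)

/-- The map from the base ring to a local ring. -/
def stalkBase (y : X) : A →+* (X.presheaf.stalk y : Type u) :=
  (X.presheaf.germ ⊤ y trivial).hom.comp (baseApp X ⊤)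

theorem stalkBase_eq {U : X.Opens} {y : X} (hy : y ∈ U) (a : A) :
    stalkBase y a = X.presheaf.germ U y hy (baseApp X U a) := by
  rw [← baseApp_res (le_top : U ≤ ⊤) a]
  exact (TopCat.Presheaf.germ_res_apply X.presheaf (homOfLE (le_top : U ≤ ⊤)) y hy _).symm

theorem mem_adicLocus_iff (x : X) :
    x ∈ adicLocus I ↔ ∀ i ∈ I, x ∉ X.basicOpen (baseApp (A := A) X ⊤ i) := by
  have key : ∀ i : A, x ∈ X.basicOpen (baseApp (A := A) X ⊤ i) ↔
      i ∉ ((X ↘ Spec (CommRingCat.of A)).base x).asIdeal := by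
    intro i
    have h1 : baseApp (A := A) X ⊤ i = (X ↘ Spec (CommRingCat.of A)).appTop
        ((Scheme.ΓSpecIso (CommRingCat.of A)).inv i) := by
      show X.presheaf.map (homOfLE le_top).op _ = _
      rw [show (homOfLE (le_top : (⊤ : X.Opens) ≤ ⊤)).op = 𝟙 _ from rfl, X.presheaf.map_id]
      rfl
    rw [h1, ← Scheme.preimage_basicOpen_top]
    show (X ↘ Spec (CommRingCat.of A)).base x ∈ (Spec (CommRingCat.of A)).basicOpen _ ↔ _
    rw [basicOpen_eq_of_affine]
    rfl
  simp only [key, not_not]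
  exact Iff.rfl

theorem mem_basicOpen_fromSpecStalk {y : X} {U : X.Opens} (hy : y ∈ U) (a : Γ(X, U))
    (q : Spec (X.presheaf.stalk y)) :
    (X.fromSpecStalk y).base q ∈ X.basicOpen a ↔
      X.presheaf.germ U y hy a ∉ (q : PrimeSpectrum (X.presheaf.stalk y)).asIdeal := by
  have hsp : (X.fromSpecStalk y).base q ⤳ y :=
    (Scheme.range_fromSpecStalk (X := X) (x := y)).subset ⟨q, rfl⟩
  show q ∈ (X.fromSpecStalk y) ⁻¹ᵁ X.basicOpen a ↔ _
  rw [Scheme.preimage_basicOpen, Scheme.fromSpecStalk_app hy]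
  simp only [CommRingCat.comp_apply]
  erw [Scheme.basicOpen_res]
  rw [basicOpen_eq_of_affine]
  exact ⟨fun h => h.2, fun h => ⟨hsp.mem_open U.2 hy, h⟩⟩

variable {I} {Xh : LocallyRingedSpace.{u}} {ι : Xh ⟶ X.toLocallyRingedSpace}
  (hh : HensSch.IsHenselizationAlong X (adicLocus I) Xh ι)

include hh

theorem map_le_vanIdeal (z : Xh) : I.map (stalkBase (X := X) (ι.base z)) ≤ vanIdeal ι z := by
  rw [Ideal.map_le_iff_le_comap]
  intro i hi
  refine Ideal.subset_span ⟨⊤, trivial, baseApp X ⊤ i, ?_, rfl⟩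
  rw [hh.2.2.1]
  exact Set.disjoint_right.2 fun x hx hxi => (mem_adicLocus_iff I x).1 hx i hi hxi

theorem vanIdeal_le_radical (z : Xh) :
    vanIdeal ι z ≤ (I.map (stalkBase (X := X) (ι.base z))).radical := by
  refine Ideal.span_le.2 ?_
  rintro _ ⟨U, hU, a, ha, rfl⟩
  rw [SetLike.mem_coe, Ideal.radical_eq_sInf, Ideal.mem_sInf]
  rintro q ⟨hIq, hq⟩
  let x := (X.fromSpecStalk (ι.base z)).base ⟨q, hq⟩
  have hx : x ∈ adicLocus I := by
    refine (mem_adicLocus_iff I x).2 fun i hi hxi => ?_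
    exact (mem_basicOpen_fromSpecStalk (y := ι.base z) (U := ⊤) trivial (baseApp X ⊤ i) ⟨q, hq⟩).1 hxi
      (hIq (Ideal.mem_map_of_mem _ hi))
  by_contra hna
  exact Set.disjoint_left.1 ha ((mem_basicOpen_fromSpecStalk (y := ι.base z) hU a ⟨q, hq⟩).2 hna)
    (hh.2.2.1.symm ▸ hx)

theorem adic_le_maximalIdeal (z : Xh) :
    (I.map (stalkBase (X := X) (ι.base z))).map (ι.stalkMap z).hom ≤
      IsLocalRing.maximalIdeal (Xh.presheaf.stalk z : Type u) :=
  (Ideal.map_mono (map_le_vanIdeal hh z)).trans (vanIdeal_map_le ι z)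

variable [IsLocallyNoetherian X]

theorem isNoetherianRing_stalk (z : Xh) : IsNoetherianRing (Xh.presheaf.stalk z : Type u) := by
  letI := (ι.stalkMap z).hom.toAlgebra
  haveI : IsNoetherianRing (X.toLocallyRingedSpace.presheaf.stalk (ι.base z) : Type u) :=
    inferInstanceAs (IsNoetherianRing (X.presheaf.stalk (ι.base z) : Type u))
  exact Groth.EtaleAlgebra.isNoetherianRing_of_isPairHenselization (isPairHenselization_stalk hh z)

theorem exists_sub_mem_adic (z : Xh) (n : ℕ) (b : (Xh.presheaf.stalk z : Type u)) :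
    ∃ a, b - ι.stalkMap z a ∈ ((I ^ n).map (stalkBase (X := X) (ι.base z))).map (ι.stalkMap z).hom := by
  letI := (ι.stalkMap z).hom.toAlgebra
  haveI : IsNoetherianRing (X.presheaf.stalk (ι.base z) : Type u) := inferInstance
  let R := (X.presheaf.stalk (ι.base z) : Type u)
  let J : Ideal R := vanIdeal ι z
  obtain ⟨N, hN⟩ := Ideal.exists_pow_le_of_le_radical_of_fg
    (I := J) (J := I.map (stalkBase (X := X) (ι.base z))) (vanIdeal_le_radical hh z) (IsNoetherian.noetherian _)
  have hJK : J ^ (N * n) ≤ (I ^ n).map (stalkBase (X := X) (ι.base z)) := by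
    rw [pow_mul, Ideal.map_pow]
    exact Ideal.pow_right_mono hN n
  obtain ⟨y, hy⟩ := (Groth.HensPair.quotPow_bijective (isPairHenselization_stalk hh z) (N * n)).2
    (Ideal.Quotient.mk _ b)
  obtain ⟨a, rfl⟩ := Ideal.Quotient.mk_surjective y
  rw [Ideal.quotientMap_mk] at hy
  exact ⟨a, Ideal.map_mono hJK (Ideal.Quotient.eq.1 hy.symm)⟩

end Groth.HensScheme
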