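import Groth.Agent.HensScheme.Charts

/-! Distinguished opens of affine henselian spectra. -/

set_option autoImplicit false
set_option backward.isDefEq.respectTransparency.types false
set_option maxHeartbeats 1000000

universe u

open CategoryTheory Opposite TopologicalSpace AlgebraicGeometry

noncomputable section

namespace Groth.HensScheme

section Sph

variable {A : Type u} [CommRing A] {I : Ideal A} {U : LocallyRingedSpace.{u}}
  {π : U ⟶ HensSch.specLRS A}

theorem mem_bo_iff_of_sub_mem (hr : Set.range π.base ⊆ PrimeSpectrum.zeroLocus (I : Set A)) (f : A)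
    {c : (U.presheaf.obj (op (HensSch.dOpen π f)) : Type u)} {a : A} {n : ℕ}
    (h : c * HensSch.secMap π (PrimeSpectrum.basicOpen f) f ^ n -
        HensSch.secMap π (PrimeSpectrum.basicOpen f) a ∈
      I.map (HensSch.secMap π (PrimeSpectrum.basicOpen f)))
    (v : U) (hv : v ∈ HensSch.dOpen π f) :
    v ∈ bo c ↔ a ∉ (π.base v : PrimeSpectrum A).asIdeal := by
  let P := HensSch.dOpen π f
  let φ := HensSch.secMap π (PrimeSpectrum.basicOpen f)
  let χ := (U.presheaf.germ P v hv).hom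
  have hφ : ∀ a' : A, χ (φ a') ∈ IsLocalRing.maximalIdeal (U.presheaf.stalk v) ↔
      a' ∈ (π.base v : PrimeSpectrum A).asIdeal := by
    intro a'
    rw [IsLocalRing.mem_maximalIdeal, mem_nonunits_iff,
      show IsUnit (χ (φ a')) ↔ v ∈ bo (φ a') from (U.toRingedSpace.mem_basicOpen _ v hv).symm]
    constructor
    · intro hn
      by_contra hcon
      exact hn ((mem_bo_secMap π _ a' v).mpr ⟨hv, hcon⟩)
    · exact fun ha hmem => ((mem_bo_secMap π _ a' v).mp hmem).2 ha
  have hIv : χ (c * φ f ^ n - φ a) ∈ IsLocalRing.maximalIdeal (U.presheaf.stalk v) := by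
    refine (Ideal.map_le_iff_le_comap.mpr (fun a' ha' => (hφ a').mpr ?_) : I.map φ ≤
      (IsLocalRing.maximalIdeal (U.presheaf.stalk v)).comap χ) h
    exact hr ⟨v, rfl⟩ ha'
  have hfu : χ (φ f) ∉ IsLocalRing.maximalIdeal (U.presheaf.stalk v) := fun hm => hv ((hφ f).mp hm)
  have key : χ c ∈ IsLocalRing.maximalIdeal (U.presheaf.stalk v) ↔
      χ (φ a) ∈ IsLocalRing.maximalIdeal (U.presheaf.stalk v) := by
    rw [map_sub, map_mul, map_pow] at hIv
    constructor
    · intro hc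
      simpa using Ideal.sub_mem _ (Ideal.mul_mem_right (χ (φ f) ^ n) _ hc) hIv
    · intro ha
      have := Ideal.add_mem _ hIv ha
      rw [sub_add_cancel] at this
      exact ((IsLocalRing.maximalIdeal.isMaximal _).isPrime.mem_or_mem this).resolve_right
        fun h' => hfu ((IsLocalRing.maximalIdeal.isMaximal _).isPrime.mem_of_pow_mem n h')
  rw [show v ∈ bo c ↔ IsUnit (χ c) from U.toRingedSpace.mem_basicOpen _ v hv,
    ← IsLocalRing.notMem_maximalIdeal, key, hφ]

theorem exists_dOpen_subset (hπ : Topology.IsEmbedding π.base) (O : Opens U) (u : U) (hu : u ∈ O) :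
    ∃ f : A, u ∈ HensSch.dOpen π f ∧ HensSch.dOpen π f ≤ O := by
  obtain ⟨O', hO', hOeq⟩ := hπ.isInducing.isOpen_iff.mp O.2
  obtain ⟨_, ⟨f, rfl⟩, huf, hfO⟩ := PrimeSpectrum.isTopologicalBasis_basic_opens.exists_subset_of_mem_open
    ((Set.ext_iff.mp hOeq u).mpr hu : π.base u ∈ O') hO'
  exact ⟨f, huf, fun v hv => (Set.ext_iff.mp hOeq v).mp (hfO hv)⟩

end Sph

/-- Two affine henselian opens share distinguished opens around each common point. -/
theorem exists_image_dOpen_eq {X U V : LocallyRingedSpace.{u}}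
    (iU : U ⟶ X) [hiU : LocallyRingedSpace.IsOpenImmersion iU]
    (iV : V ⟶ X) [hiV : LocallyRingedSpace.IsOpenImmersion iV]
    {A : Type u} [CommRing A] {I : Ideal A} {πU : U ⟶ HensSch.specLRS A}
    (hU : HensSch.IsSph A I U πU)
    {B : Type u} [CommRing B] {J : Ideal B} {πV : V ⟶ HensSch.specLRS B}
    (hV : HensSch.IsSph B J V πV)
    (x : X) (hxU : x ∈ Set.range iU.base) (hxV : x ∈ Set.range iV.base) :
    ∃ (f : A) (g : B), x ∈ iU.base '' (HensSch.dOpen πU f : Set U) ∧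
      iU.base '' (HensSch.dOpen πU f : Set U) = iV.base '' (HensSch.dOpen πV g : Set V) := by
  obtain ⟨u, rfl⟩ := hxU
  obtain ⟨v, hv⟩ := hxV
  obtain ⟨f, huf, hfle⟩ := exists_dOpen_subset hU.1
    ⟨iU.base ⁻¹' Set.range iV.base, hiV.base_open.isOpen_range.preimage iU.base.hom.continuous⟩ u ⟨v, hv⟩
  let W : Opens X := hiU.base_open.functor.obj (HensSch.dOpen πU f)
  have hWV : SetLike.coe W ⊆ Set.range iV.base := by rintro _ ⟨w, hw, rfl⟩; exact hfle hw
  obtain ⟨g, hvg, hgle⟩ := exists_dOpen_subset hV.1 ((Opens.map iV.base).obj W) v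
    (show iV.base v ∈ W by rw [hv]; exact ⟨u, huf, rfl⟩)
  obtain ⟨t, ht⟩ := (bijective_appR iV W hWV).2
    (res le_top (HensSch.secMap πV ⊤ g))
  have hbt : ∀ w : V, iV.base w ∈ bo t ↔ w ∈ HensSch.dOpen πV g := by
    intro w
    refine ((Set.ext_iff.mp (congrArg SetLike.coe (bo_appR iV t)) w).symm.trans ?_)
    rw [ht]
    refine (Set.ext_iff.mp (congrArg SetLike.coe (basicOpen_resTo (X := V) le_top _)) w).trans ?_
    refine ⟨fun hw => ((mem_bo_secMap πV ⊤ g w).mp hw.2).2, fun hw => ⟨hgle hw, ?_⟩⟩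
    exact (mem_bo_secMap πV ⊤ g w).mpr ⟨trivial, hw⟩
  have hPW : HensSch.dOpen πU f ≤ (Opens.map iU.base).obj W := fun w hw => ⟨w, hw, rfl⟩
  obtain ⟨a, n, ha⟩ := exists_sub_mem_of_isHensAway (hU.2.2 f) (res hPW (appR iU W t))
  have hbc : ∀ w ∈ HensSch.dOpen πU f, iU.base w ∈ bo t ↔ a ∉ (πU.base w : PrimeSpectrum A).asIdeal := by
    intro w hw
    rw [← mem_bo_iff_of_sub_mem hU.2.1.subset f ha w hw]
    exact ⟨fun h => (Set.ext_iff.mp (congrArg SetLike.coe (basicOpen_resTo hPW _)) w).mpr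
      ⟨hw, (Set.ext_iff.mp (congrArg SetLike.coe (bo_appR iU t)) w).mpr h⟩,
      fun h => (Set.ext_iff.mp (congrArg SetLike.coe (bo_appR iU t)) w).mp
        ((Set.ext_iff.mp (congrArg SetLike.coe (basicOpen_resTo hPW _)) w).mp h).2⟩
  refine ⟨f * a, g, ⟨u, ?_, rfl⟩, ?_⟩
  · show f * a ∉ (πU.base u : PrimeSpectrum A).asIdeal
    refine fun h => ((πU.base u : PrimeSpectrum A).isPrime.mem_or_mem h).elim huf ((hbc u huf).mp ?_)
    rw [← hv]
    exact (hbt v).mpr hvg
  · ext y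
    constructor
    · rintro ⟨w, hw, rfl⟩
      have hwf : w ∈ HensSch.dOpen πU f := fun h => hw (Ideal.mul_mem_right _ _ h)
      obtain ⟨w', hw'⟩ := hWV ⟨w, hwf, rfl⟩
      refine ⟨w', (hbt w').mp ?_, hw'⟩
      rw [hw']
      exact (hbc w hwf).mpr fun h => hw (Ideal.mul_mem_left _ _ h)
    · rintro ⟨w', hw', rfl⟩
      obtain ⟨w, hwf, hw⟩ := hgle hw'
      refine ⟨w, fun h => ((πU.base w : PrimeSpectrum A).isPrime.mem_or_mem h).elim hwf ((hbc w hwf).mp ?_), hw⟩
      exact (congrArg (fun y => y ∈ bo t) hw).mpr ((hbt w').mpr hw')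

end Groth.HensScheme
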