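import Groth.Agent.HensScheme.Lift
import Groth.Agent.Hensel1.Local
import Groth.Prelude.Def_HensSch
import Mathlib.AlgebraicGeometry.AffineScheme

/-! Good opens and pieces from charts. -/

set_option autoImplicit false
set_option backward.isDefEq.respectTransparency.types false
set_option maxHeartbeats 1000000

universe u

open CategoryTheory Opposite TopologicalSpace AlgebraicGeometry

noncomputable section

namespace Groth.HensScheme

variable {Z Y X : LocallyRingedSpace.{u}}

theorem res_self {U : Opens X} (h : U ≤ U) (s : (X.presheaf.obj (op U) : Type u)) : res h s = s :=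
  congrArg (fun φ => φ.hom s) (X.presheaf.map_id (op U))

theorem comm_app {a b : Z ⟶ X} (h : a = b) (U : Opens X) (s : (X.presheaf.obj (op U) : Type u))
    (hle : (Opens.map b.base).obj U ≤ (Opens.map a.base).obj U) :
    res hle (appR a U s) = appR b U s := by
  subst h; exact res_self _ _

theorem bijective_res {U V : Opens X} (h : U ≤ V) (h' : V ≤ U) : Function.Bijective (res h) := by
  obtain rfl := le_antisymm h h'
  exact ⟨fun a b e => by rw [res_self, res_self] at e; exact e, fun a => ⟨a, res_self _ _⟩⟩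

/-- Sections over an open in the range of an open immersion are those over its preimage. -/
theorem bijective_appR (v : Z ⟶ X) [H : LocallyRingedSpace.IsOpenImmersion v] (U : Opens X)
    (hU : (U : Set X) ⊆ Set.range v.base) : Function.Bijective (appR v U) := by
  have h : U = H.base_open.functor.obj ((Opens.map v.base).obj U) := by
    ext x
    constructor
    · intro hx
      obtain ⟨z, rfl⟩ := hU hx
      exact ⟨z, hx, rfl⟩
    · rintro ⟨z, hz, rfl⟩
      exact hz
  have : IsIso (v.c.app (op U)) :=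
    PresheafedSpace.IsOpenImmersion.c_iso' (H := H) v.toShHom.hom ((Opens.map v.base).obj U) h
  exact ConcreteCategory.bijective_of_isIso (v.c.app (op U))

theorem bo_appR (f : Z ⟶ X) {U : Opens X} (s : (X.presheaf.obj (op U) : Type u)) :
    bo (appR f U s) = (Opens.map f.base).obj (bo s) :=
  (LocallyRingedSpace.preimage_basicOpen f s).symm

theorem bo_le {U : Opens X} (s : (X.presheaf.obj (op U) : Type u)) : bo s ≤ U :=
  X.toRingedSpace.basicOpen_le s

theorem henselianRing_comap {R S : Type u} [CommRing R] [CommRing S] (e : R ≃+* S) (J : Ideal S)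
    [hJ : HenselianRing S J] : HenselianRing R (J.comap (e : R →+* S)) where
  jac x hx := by
    have h := hJ.jac (show e x ∈ J from hx)
    rw [Ideal.mem_jacobson_bot] at h ⊢
    intro y
    have hy := h (e y)
    have := hy.map (e.symm : S →+* R)
    simpa using this
  is_henselian f hf a₀ h0 hu := by
    obtain ⟨a, ha, ha'⟩ := hJ.is_henselian (f.map (e : R →+* S)) (hf.map _) (e a₀) (by
        rw [show e a₀ = (e : R →+* S) a₀ from rfl, Polynomial.eval_map_apply]; exact h0) (by
        rw [show e a₀ = (e : R →+* S) a₀ from rfl, Polynomial.derivative_map, Polynomial.eval_map_apply]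
        have := hu.map (Ideal.quotientMap J (e : R →+* S) le_rfl)
        rwa [Ideal.quotientMap_mk] at this)
    refine ⟨e.symm a, ?_, ?_⟩
    · have h1 : (f.map (e : R →+* S)).eval a = 0 := ha
      rw [show a = (e : R →+* S) (e.symm a) from (e.apply_symm_apply a).symm,
        Polynomial.eval_map_apply] at h1
      exact e.injective (h1.trans (map_zero e).symm)
    · show (e : R →+* S) (e.symm a - a₀) ∈ J
      rw [map_sub, show (e : R →+* S) (e.symm a) = a from e.apply_symm_apply a]
      exact ha'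

/-- Sections over a henselized chart come from the base up to the ideal. -/
theorem exists_sub_mem_of_isHensAway {A : Type u} [CommRing A] {I : Ideal A} {f : A} {B : Type u}
    [CommRing B] {φ : A →+* B} (h : HensSch.IsHensAway A I f B φ) (c : B) :
    ∃ (a : A) (n : ℕ), c * φ f ^ n - φ a ∈ I.map φ := by
  obtain ⟨hf, -, huni⟩ := h
  let q : A →+* B ⧸ I.map φ := (Ideal.Quotient.mk _).comp φ
  have hq : ∀ a ∈ I, q a = 0 := fun a ha =>
    Ideal.Quotient.eq_zero_iff_mem.mpr (Ideal.mem_map_of_mem φ ha)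
  have hqf : IsUnit (q f) := hf.map (Ideal.Quotient.mk _)
  let L : Localization.Away f →+* B ⧸ I.map φ := IsLocalization.Away.lift f hqf
  let qR : A →+* L.range := q.codRestrict L.range fun a =>
    ⟨algebraMap A _ a, IsLocalization.Away.lift_eq f hqf a⟩
  have hqR : IsUnit (qR f) := by
    have : qR f = L.rangeRestrict (algebraMap A _ f) :=
      Subtype.ext (IsLocalization.Away.lift_eq f hqf f).symm
    rw [this]
    exact (IsLocalization.Away.algebraMap_isUnit f).map _
  obtain ⟨ψ, hψ, -⟩ := huni L.range ⊥ qR (henselianRing_bot _) (by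
    rw [Ideal.map_le_iff_le_comap]
    exact fun a ha => Ideal.mem_bot.mpr (Subtype.ext (hq a ha))) hqR
  obtain ⟨ψ', -, huniq⟩ := huni (B ⧸ I.map φ) ⊥ q (henselianRing_bot _) (by
    rw [Ideal.map_le_iff_le_comap]
    exact fun a ha => Ideal.mem_bot.mpr (hq a ha)) hqf
  have e : L.range.subtype.comp ψ = Ideal.Quotient.mk _ := by
    rw [huniq (Ideal.Quotient.mk _) rfl, huniq (L.range.subtype.comp ψ) (by
      show (L.range.subtype.comp ψ).comp φ = q
      rw [RingHom.comp_assoc, hψ]
      rfl)]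
  obtain ⟨x, hx⟩ := (ψ c).2
  obtain ⟨⟨a, ⟨_, n, rfl⟩⟩, ha⟩ := IsLocalization.surj (Submonoid.powers f) x
  refine ⟨a, n, Ideal.Quotient.eq.mp ?_⟩
  have h1 := congrArg L ha
  rw [map_mul, hx, IsLocalization.Away.lift_eq, IsLocalization.Away.lift_eq,
    show (ψ c : B ⧸ I.map φ) = Ideal.Quotient.mk _ c from RingHom.congr_fun e c] at h1
  rw [map_mul, map_pow]
  rw [map_pow] at h1
  exact h1

section Affine

variable {A : Type u} [CommRing A]

/-- The structure map to sections of the affine scheme. -/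
abbrev α₀ (D : Opens (Spec (CommRingCat.of A)).toLocallyRingedSpace) :
    A →+* ((Spec (CommRingCat.of A)).toLocallyRingedSpace.presheaf.obj (op D) : Type u) :=
  (res le_top).comp (Scheme.ΓSpecIso (CommRingCat.of A)).inv.hom

theorem specRingHom_ext {R : CommRingCat.{u}} {C : Type u} [CommRing C] {f : R}
    {g h : (Γ(Spec R, PrimeSpectrum.basicOpen f) : Type u) →+* C}
    (e : g.comp (algebraMap R _) = h.comp (algebraMap R _)) : g = h :=
  IsLocalization.ringHom_ext (Submonoid.powers f) e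

theorem specIsUnit {R : CommRingCat.{u}} (f : R) :
    IsUnit (algebraMap R (Γ(Spec R, PrimeSpectrum.basicOpen f) : Type u) f) :=
  IsLocalization.Away.algebraMap_isUnit f

theorem hom_ext_basicOpen {C : Type u} [CommRing C] {f : A}
    {D : Opens (Spec (CommRingCat.of A)).toLocallyRingedSpace} (hD : D = PrimeSpectrum.basicOpen f)
    {g h : ((Spec (CommRingCat.of A)).toLocallyRingedSpace.presheaf.obj (op D) : Type u) →+* C}
    (e : g.comp (α₀ D) = h.comp (α₀ D)) : g = h := by
  subst hD
  exact specRingHom_ext (R := CommRingCat.of A) (f := f) e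

theorem isUnit_α₀ {f : A} {D : Opens (Spec (CommRingCat.of A)).toLocallyRingedSpace}
    (hD : D = PrimeSpectrum.basicOpen f) : IsUnit (α₀ D f) := by
  subst hD
  exact specIsUnit (R := CommRingCat.of A) f

theorem mem_bo_α₀ {D : Opens (Spec (CommRingCat.of A)).toLocallyRingedSpace} (a : A)
    (t : PrimeSpectrum A) : t ∈ bo (α₀ D a) ↔ t ∈ D ∧ a ∉ t.asIdeal := by
  rw [show bo (α₀ D a) = D ⊓ bo ((Scheme.ΓSpecIso (CommRingCat.of A)).inv a) from basicOpen_resTo le_top _]
  have h : bo (X := (Spec (CommRingCat.of A)).toLocallyRingedSpace) ((Scheme.ΓSpecIso (CommRingCat.of A)).inv a) =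
      PrimeSpectrum.basicOpen a := basicOpen_eq_of_affine (R := CommRingCat.of A) a
  rw [h]
  exact Iff.rfl

theorem secMap_eq {U : LocallyRingedSpace.{u}} (π : U ⟶ HensSch.specLRS A)
    (D : Opens (PrimeSpectrum A)) (a : A) : HensSch.secMap π D a = appR π D (α₀ D a) :=
  (app_res π (le_top : (D : Opens (Spec (CommRingCat.of A)).toLocallyRingedSpace) ≤ ⊤) _).symm

theorem mem_bo_secMap {U : LocallyRingedSpace.{u}} (π : U ⟶ HensSch.specLRS A)
    (D : Opens (PrimeSpectrum A)) (a : A) (u : U) :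
    u ∈ bo (HensSch.secMap π D a) ↔ π.base u ∈ D ∧ a ∉ (π.base u : PrimeSpectrum A).asIdeal := by
  rw [secMap_eq, bo_appR]
  exact mem_bo_α₀ a (π.base u)

end Affine

/-- Pieces form a basis in a chart which is an affine henselian spectrum, of any pair. -/
theorem exists_piece_chart {Z U : LocallyRingedSpace.{u}} (i : U ⟶ Z)
    (hi : LocallyRingedSpace.IsOpenImmersion i) {B : Type u} [CommRing B] {I : Ideal B}
    {π : U ⟶ HensSch.specLRS B} (hU : HensSch.IsSph B I U π) (u : U) (O : Opens Z)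
    (hz : i.base u ∈ O) : ∃ W, Piece W ∧ i.base u ∈ W ∧ W ≤ O := by
  obtain ⟨hπ, hrange, hsph⟩ := hU
  obtain ⟨O', hO', hOeq⟩ := hπ.isInducing.isOpen_iff.mp ((Opens.map i.base).obj O).2
  obtain ⟨_, ⟨b, rfl⟩, hub, hbO⟩ := PrimeSpectrum.isTopologicalBasis_basic_opens.exists_subset_of_mem_open
    ((Set.ext_iff.mp hOeq u).mpr hz : π.base u ∈ O') hO'
  let P := HensSch.dOpen π b
  let W : Opens Z := hi.base_open.functor.obj P
  have hWle : W ≤ O := by
    rintro _ ⟨v, hv, rfl⟩
    exact (Set.ext_iff.mp hOeq v).mp (hbO hv)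
  refine ⟨W, ?_, ⟨u, hub, rfl⟩, hWle⟩
  have hpre : (Opens.map i.base).obj W = P := by
    ext v
    constructor
    · rintro ⟨v', hv', he⟩
      rw [← hi.base_open.injective he]
      exact hv'
    · exact fun hv => ⟨v, hv, rfl⟩
  have hWsub : (W : Set Z) ⊆ Set.range i.base := by rintro _ ⟨v, -, rfl⟩; exact ⟨v, rfl⟩
  let θ := RingEquiv.ofBijective ((res hpre.ge).comp (appR i W))
    ((bijective_res hpre.ge hpre.le).comp (bijective_appR i W hWsub))
  obtain ⟨hbu, hH, -⟩ := hsph b
  let φ := HensSch.secMap π (PrimeSpectrum.basicOpen b)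
  have : HenselianRing _ (I.map φ) := hH
  have : HenselianRing _ (I.map φ).radical := Groth.Hensel1.henselianRing_of_le_radical le_rfl
  refine ⟨(I.map φ).radical.comap (θ : _ →+* _), henselianRing_comap θ _, fun c hc => ?_⟩
  show θ c ∈ (I.map φ).radical
  have hθ : bo (θ c) = ⊥ := by
    show bo (res hpre.ge (appR i W c)) = ⊥
    rw [show bo (res hpre.ge (appR i W c)) = P ⊓ bo (appR i W c) from basicOpen_resTo _ _, bo_appR,
      show bo c = ⊥ from hc]
    exact eq_bot_iff.mpr fun v hv => hv.2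
  obtain ⟨a, n, ha⟩ := exists_sub_mem_of_isHensAway (hsph b) (θ c)
  have hvan : ∀ v ∈ P, a ∈ (π.base v : PrimeSpectrum B).asIdeal := by
    intro v hv
    by_contra hcon
    have hunit := (U.toRingedSpace.mem_basicOpen _ v hv).mp
      ((mem_bo_secMap π _ a v).mpr ⟨hv, hcon⟩)
    let χ := (U.presheaf.germ P v hv).hom
    have hIv : ∀ j ∈ I.map φ, χ j ∈ IsLocalRing.maximalIdeal (U.presheaf.stalk v) := by
      intro j hj
      refine (Ideal.map_le_iff_le_comap.mpr ?_ : I.map φ ≤
        (IsLocalRing.maximalIdeal (U.presheaf.stalk v)).comap χ) hj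
      intro a' ha'
      show χ (φ a') ∈ nonunits _
      intro hu
      have hmem : v ∈ bo (φ a') := (U.toRingedSpace.mem_basicOpen _ v hv).mpr hu
      refine ((mem_bo_secMap π _ a' v).mp hmem).2 ?_
      have : (π.base v : PrimeSpectrum B) ∈ PrimeSpectrum.zeroLocus (I : Set B) := hrange ▸ ⟨v, rfl⟩
      exact this ha'
    have hcv : χ (θ c) ∈ IsLocalRing.maximalIdeal (U.presheaf.stalk v) := fun hu => by
      have : v ∈ bo (θ c) := (U.toRingedSpace.mem_basicOpen _ v hv).mpr hu
      rw [hθ] at this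
      exact this
    refine (IsLocalRing.mem_maximalIdeal _).mp ?_ hunit
    show χ (φ a) ∈ _
    rw [show χ (φ a) = χ (θ c) * χ (φ b ^ n) - χ (θ c * φ b ^ n - φ a) by
      rw [map_sub, map_mul, sub_sub_cancel]]
    exact Ideal.sub_mem _ (Ideal.mul_mem_right _ _ hcv) (hIv _ ha)
  have hab : a * b ∈ I.radical := by
    rw [Ideal.radical_eq_sInf, Ideal.mem_sInf]
    rintro p ⟨hIp, hp⟩
    by_cases hbp : b ∈ p
    · exact p.mul_mem_left _ hbp
    obtain ⟨v, hv⟩ : (⟨p, hp⟩ : PrimeSpectrum B) ∈ Set.range π.base := hrange ▸ hIp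
    have := hvan v (show π.base v ∈ PrimeSpectrum.basicOpen b by rw [hv]; exact hbp)
    rw [hv] at this
    exact p.mul_mem_right _ this
  have hφa : φ a ∈ (I.map φ).radical := by
    have h1 : φ (a * b) ∈ (I.map φ).radical := Ideal.map_radical_le φ (Ideal.mem_map_of_mem φ hab)
    rw [map_mul] at h1
    exact (Ideal.mul_unit_mem_iff_mem _ hbu).mp h1
  have h2 : θ c * φ b ^ n ∈ (I.map φ).radical := by
    have h3 := add_mem (Ideal.le_radical ha) hφa
    rwa [sub_add_cancel] at h3
  exact (Ideal.mul_unit_mem_iff_mem _ (hbu.pow n)).mp h2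

/-- The pieces of a henselian scheme form a basis. -/
theorem exists_piece {Z : LocallyRingedSpace.{u}} (hZ : HensSch.IsHensScheme Z) (z : Z) (O : Opens Z)
    (hz : z ∈ O) : ∃ W, Piece W ∧ z ∈ W ∧ W ≤ O := by
  obtain ⟨U, i, hi, ⟨u, rfl⟩, B, _, I, π, -, -, hU⟩ := hZ z
  exact exists_piece_chart i hi hU u O hz

/-- The pieces of a henselization form a basis. -/
theorem exists_piece_of_isHenselizationAlong {X : Scheme.{u}} {Y : Set X} {Xh : LocallyRingedSpace.{u}}
    {ι : Xh ⟶ X.toLocallyRingedSpace} (hh : HensSch.IsHenselizationAlong X Y Xh ι) (z : Xh) (O : Opens Xh)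
    (hz : z ∈ O) : ∃ W, Piece W ∧ z ∈ W ∧ W ≤ O := by
  obtain ⟨A, _, j, _, hzj, V, v, hv, π, hrv, -, hV⟩ :=
    hh.2.2.2 (ι.base z) (hh.2.2.1 ▸ ⟨z, rfl⟩)
  obtain ⟨u, rfl⟩ : z ∈ Set.range v.base := hrv ▸ hzj
  exact exists_piece_chart v hv hV u O hz

/-- The good opens form a basis along `Y`. -/
theorem exists_good {X : Scheme.{u}} {Y : Set X} {Xh : LocallyRingedSpace.{u}}
    {ι : Xh ⟶ X.toLocallyRingedSpace} (hh : HensSch.IsHenselizationAlong X Y Xh ι)
    (y : X.toLocallyRingedSpace) (O : Opens X.toLocallyRingedSpace) (hy : y ∈ Set.range ι.base)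
    (hyO : y ∈ O) : ∃ U', Good ι U' ∧ y ∈ U' ∧ U' ≤ O := by
  obtain ⟨-, -, hrangeι, hcharts⟩ := hh
  obtain ⟨A, _, j, hj, ⟨t, rfl⟩, V, v, hv, π, hvr, hcomp, hπ, hπr, hsph⟩ := hcharts y (hrangeι ▸ hy)
  obtain ⟨_, ⟨f, rfl⟩, htf, hfO⟩ := PrimeSpectrum.isTopologicalBasis_basic_opens.exists_subset_of_mem_open
    (show t ∈ j.base ⁻¹' SetLike.coe O from hyO) (O.2.preimage j.base.hom.continuous)
  let U' : Opens X.toLocallyRingedSpace := j ''ᵁ PrimeSpectrum.basicOpen f
  refine ⟨U', ?_, ⟨t, htf, rfl⟩, by rintro _ ⟨s, hs, rfl⟩; exact hfO hs⟩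
  have hjU : (Opens.map j.toLRSHom.base).obj U' = PrimeSpectrum.basicOpen f := by
    ext s
    constructor
    · rintro ⟨s', hs', he⟩
      rw [← j.isOpenEmbedding.injective he]
      exact hs'
    · exact fun hs => ⟨s, hs, rfl⟩
  have hUj : SetLike.coe U' ⊆ Set.range j.base := by rintro _ ⟨s, -, rfl⟩; exact ⟨s, rfl⟩
  haveI : LocallyRingedSpace.IsOpenImmersion j.toLRSHom := hj
  let ej := RingEquiv.ofBijective ((res hjU.ge).comp (appR j.toLRSHom U'))
    ((bijective_res hjU.ge hjU.le).comp (bijective_appR j.toLRSHom U' hUj))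
  -- identify the sections upstairs
  have hvU : (Opens.map v.base).obj ((Opens.map ι.base).obj U') = HensSch.dOpen π f := by
    ext w
    show ι.base (v.base w) ∈ U' ↔ π.base w ∈ PrimeSpectrum.basicOpen f
    rw [show ι.base (v.base w) = j.base (π.base w) from
      congrArg (fun m : V ⟶ X.toLocallyRingedSpace => m.base w) hcomp]
    exact Set.ext_iff.mp (congrArg (fun W : Opens _ => (W : Set _)) hjU) (π.base w)
  have hιv : SetLike.coe ((Opens.map ι.base).obj U') ⊆ Set.range v.base := by
    rw [hvr]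
    exact fun w hw => hUj hw
  let θ := RingEquiv.ofBijective ((res hvU.ge).comp (appR v ((Opens.map ι.base).obj U')))
    ((bijective_res hvU.ge hvU.le).comp (bijective_appR v _ hιv))
  let πD : (((Spec (CommRingCat.of A)).toLocallyRingedSpace).presheaf.obj
      (op (PrimeSpectrum.basicOpen f)) : Type u) →+* _ := appR π (PrimeSpectrum.basicOpen f)
  have hsq : ∀ s, θ (appR ι U' s) = πD (ej s) := by
    intro s
    have e1 : (Opens.map (π ≫ j.toLRSHom).base).obj U' ≤ (Opens.map (v ≫ ι).base).obj U' := by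
      rw [hcomp]
    have h1 := comm_app hcomp U' s e1
    show res hvU.ge (appR (v ≫ ι) U' s) = appR π _ (res hjU.ge (appR j.toLRSHom U' s))
    rw [show appR π (PrimeSpectrum.basicOpen f) (res hjU.ge (appR j.toLRSHom U' s)) =
      res _ (appR π ((Opens.map j.toLRSHom.base).obj U') (appR j.toLRSHom U' s)) from app_res π _ _]
    show _ = res _ (appR (π ≫ j.toLRSHom) U' s)
    rw [← h1]
    exact (res_res (X := V) _ _ _).symm
  intro C _ J g hJ hgvan
  let ψ := g.comp ej.symm.toRingHom
  obtain ⟨h₀, hh₀, huniq⟩ := (hsph f).2.2 C J (ψ.comp (α₀ _)) hJ (by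
    rw [Ideal.map_le_iff_le_comap]
    intro a ha
    refine hgvan _ (Set.disjoint_left.mpr ?_)
    intro x hx hxY
    obtain ⟨s, rfl⟩ := hUj (bo_le _ hx)
    have hs : s ∈ bo (ej (ej.symm (α₀ (A := A) (PrimeSpectrum.basicOpen f) a))) := by
      have hsU : j.base s ∈ U' := bo_le _ hx
      show s ∈ bo (res hjU.ge (appR j.toLRSHom U' _))
      exact (Set.ext_iff.mp (congrArg SetLike.coe (basicOpen_resTo hjU.ge _)) s).mpr
        ⟨hjU.le hsU, (Set.ext_iff.mp (congrArg SetLike.coe (bo_appR j.toLRSHom _)) s).mpr hx⟩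
    rw [RingEquiv.apply_symm_apply] at hs
    refine ((mem_bo_α₀ a s).mp hs).2 ?_
    rw [hrangeι] at hxY
    exact (PrimeSpectrum.mem_vanishingIdeal _ _).mp ha s hxY) ((isUnit_α₀ rfl).map ψ)
  have hD : h₀.comp πD = ψ := hom_ext_basicOpen rfl (by
    rw [← hh₀]
    ext a
    show h₀ (appR π _ (α₀ _ a)) = h₀ (HensSch.secMap π _ a)
    rw [secMap_eq])
  refine ⟨h₀.comp (θ : _ →+* _), RingHom.ext fun s => ?_, fun h' hh' => ?_⟩
  · show h₀ (θ (appR ι U' s)) = g s
    rw [hsq]
    refine (RingHom.congr_fun hD (ej s)).trans ?_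
    exact congrArg g (ej.symm_apply_apply s)
  · have h1 : h'.comp θ.symm.toRingHom = h₀ := huniq _ (RingHom.ext fun a => by
      show h' (θ.symm (HensSch.secMap π _ a)) = g (ej.symm (α₀ _ a))
      rw [← RingHom.congr_fun hh' (ej.symm (α₀ _ a))]
      show _ = h' (appR ι U' _)
      congr 1
      rw [RingEquiv.symm_apply_eq, hsq, RingEquiv.apply_symm_apply, secMap_eq])
    ext x
    show h' x = h₀ (θ x)
    rw [← h1]
    exact (congrArg h' (θ.symm_apply_apply x)).symm

/-- The universal property of the henselization along a closed subset. -/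
theorem existsUnique_of_isHenselizationAlong {X : Scheme.{u}} {Y : Set X} {Xh : LocallyRingedSpace.{u}}
    {ι : Xh ⟶ X.toLocallyRingedSpace} (hh : HensSch.IsHenselizationAlong X Y Xh ι)
    {Z : LocallyRingedSpace.{u}} (hZ : HensSch.IsHensScheme Z) (g : Z ⟶ X.toLocallyRingedSpace)
    (hg : Set.range g.base ⊆ Y) : ∃! g' : Z ⟶ Xh, g' ≫ ι = g :=
  existsUnique_lift (exists_piece hZ) (exists_good hh) hh.2.1 (by rw [hh.2.2.1]; exact hg)

end Groth.HensScheme
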