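import Mathlib.Geometry.RingedSpace.LocallyRingedSpace
import Mathlib.Topology.Sheaves.SheafCondition.UniqueGluing
import Mathlib.RingTheory.Henselian

/-! Lifting morphisms through a henselization map of locally ringed spaces. -/

set_option autoImplicit false
set_option maxHeartbeats 1000000

universe u

open CategoryTheory Opposite TopologicalSpace AlgebraicGeometry

noncomputable section

namespace Groth.HensScheme

variable {Z Xh X : LocallyRingedSpace.{u}}

/-- Restriction of sections. -/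
abbrev res {X : LocallyRingedSpace.{u}} {U V : Opens X} (h : U ≤ V) :
    (X.presheaf.obj (op V) : Type u) →+* (X.presheaf.obj (op U) : Type u) :=
  (X.presheaf.map (homOfLE h).op).hom

theorem res_res {X : LocallyRingedSpace.{u}} {U V W : Opens X} (h : U ≤ V) (h' : V ≤ W)
    (s : (X.presheaf.obj (op W) : Type u)) : res h (res h' s) = res (h.trans h') s := by
  show (X.presheaf.map _) ((X.presheaf.map _) s) = _
  rw [← CommRingCat.comp_apply, ← X.presheaf.map_comp]
  rfl

theorem map_eq_res {X : LocallyRingedSpace.{u}} {U V : Opens X} (i : U ⟶ V)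
    (s : (X.presheaf.obj (op V) : Type u)) : (X.presheaf.map i.op) s = res i.le s := rfl

theorem basicOpen_resTo {X : LocallyRingedSpace.{u}} {U V : Opens X} (h : U ≤ V)
    (s : (X.presheaf.obj (op V) : Type u)) :
    X.toRingedSpace.basicOpen (res h s) = U ⊓ X.toRingedSpace.basicOpen s :=
  X.toRingedSpace.basicOpen_res (homOfLE h).op s

/-- Basic open of a section. -/
abbrev bo {X : LocallyRingedSpace.{u}} {U : Opens X} (a : (X.presheaf.obj (op U) : Type u)) : Opens X :=
  X.toRingedSpace.basicOpen a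

/-- Pullback of sections. -/
abbrev appR {Z X : LocallyRingedSpace.{u}} (f : Z ⟶ X) (U : Opens X) :
    (X.presheaf.obj (op U) : Type u) →+* (Z.presheaf.obj (op ((Opens.map f.base).obj U)) : Type u) :=
  (f.c.app (op U)).hom

theorem app_res {Z X : LocallyRingedSpace.{u}} (f : Z ⟶ X) {U V : Opens X} (h : U ≤ V)
    (s : (X.presheaf.obj (op V) : Type u)) :
    f.c.app (op U) (res h s) = res ((Opens.map f.base).map (homOfLE h)).le (f.c.app (op V) s) := by
  show (X.presheaf.map _ ≫ f.c.app (op U)) s = _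
  rw [f.c.naturality]
  rfl

/-- A subset of `Z` whose ring of sections is henselian along the sections vanishing everywhere. -/
def Piece (W : Opens Z) : Prop :=
  ∃ (J : Ideal (Z.presheaf.obj (op W) : Type u)), HenselianRing (Z.presheaf.obj (op W) : Type u) J ∧
    ∀ c, Z.toRingedSpace.basicOpen (U := W) c = ⊥ → c ∈ J

variable (ι : Xh ⟶ X)

/-- The sections over an open of `X` are henselized on its preimage. -/
def Good (U' : Opens X) : Prop :=
  ∀ (C : Type u) [CommRing C] (J : Ideal C) (g : (X.presheaf.obj (op U') : Type u) →+* C),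
    HenselianRing C J →
    (∀ a, Disjoint (bo (U := U') a : Set X) (Set.range ι.base) → g a ∈ J) →
    ∃! h : (Xh.presheaf.obj (op ((Opens.map ι.base).obj U')) : Type u) →+* C,
      h.comp (appR ι U') = g

theorem henselianRing_bot (R : Type u) [CommRing R] : HenselianRing R (⊥ : Ideal R) where
  jac := bot_le
  is_henselian f _ a₀ h _ := ⟨a₀, by simpa using h, by simp⟩

variable {ι}

/-- Sections over a good open come from the base up to vanishing ones. -/
theorem Good.exists_sub_mem {U' : Opens X} (hU : Good ι U')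
    (s : (Xh.presheaf.obj (op ((Opens.map ι.base).obj U')) : Type u)) :
    ∃ a, s - (appR ι U') a ∈ Ideal.span ((appR ι U') ''
      {a | Disjoint (bo (U := U') a : Set X) (Set.range ι.base)}) := by
  let I := Ideal.span ((appR ι U') ''
    {a | Disjoint (bo (U := U') a : Set X) (Set.range ι.base)})
  let q := (Ideal.Quotient.mk I).comp (appR ι U')
  have hI : ∀ a, Disjoint (bo (U := U') a : Set X) (Set.range ι.base) →
      q a = 0 := fun a ha => Ideal.Quotient.eq_zero_iff_mem.mpr (Ideal.subset_span ⟨a, ha, rfl⟩)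
  obtain ⟨h, hh, -⟩ := hU q.range ⊥ q.rangeRestrict (henselianRing_bot _)
    fun a ha => Ideal.mem_bot.mpr (Subtype.ext (hI a ha))
  obtain ⟨h', -, huniq⟩ := hU _ ⊥ q (henselianRing_bot _) fun a ha => Ideal.mem_bot.mpr (hI a ha)
  have e : q.range.subtype.comp h = Ideal.Quotient.mk I := by
    rw [huniq (Ideal.Quotient.mk I) rfl, huniq (q.range.subtype.comp h) (by
        show (q.range.subtype.comp h).comp _ = q
        rw [RingHom.comp_assoc, hh]; rfl)]
  obtain ⟨a, ha⟩ := (h s).2
  refine ⟨a, Ideal.Quotient.eq.mp ?_⟩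
  rw [← RingHom.congr_fun e s]
  exact ha.symm

section Core

variable (hZ : ∀ (z : Z) (O : Opens Z), z ∈ O → ∃ W, Piece W ∧ z ∈ W ∧ W ≤ O)
  (hX : ∀ (y : X) (O : Opens X), y ∈ Set.range ι.base → y ∈ O → ∃ U', Good ι U' ∧ y ∈ U' ∧ U' ≤ O)
  (hι : Topology.IsEmbedding ι.base) (g : Z ⟶ X) (hg : Set.range g.base ⊆ Set.range ι.base)

/-- An index: a piece of `Z` over a good open. -/
structure Idx (g : Z ⟶ X) (ι : Xh ⟶ X) where
  W : Opens Z
  U' : Opens X
  hW : Piece W
  hU : Good ι U'
  le : W ≤ (Opens.map g.base).obj U'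

variable {g}

/-- The composite to a piece. -/
def Idx.gmap (i : Idx g ι) : (X.presheaf.obj (op i.U') : Type u) →+* (Z.presheaf.obj (op i.W) : Type u) :=
  (res i.le).comp (g.c.app (op i.U')).hom

include hg in
theorem Idx.exu (i : Idx g ι) :
    ∃! h : (Xh.presheaf.obj (op ((Opens.map ι.base).obj i.U')) : Type u) →+*
      (Z.presheaf.obj (op i.W) : Type u), h.comp (ι.c.app (op i.U')).hom = i.gmap := by
  obtain ⟨J, hJ, hmem⟩ := i.hW
  refine i.hU _ J i.gmap hJ fun a ha => hmem _ ?_
  show Z.toRingedSpace.basicOpen (res i.le (g.c.app (op i.U') a)) = ⊥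
  rw [basicOpen_resTo, eq_bot_iff]
  rintro z ⟨-, hz⟩
  rw [← LocallyRingedSpace.preimage_basicOpen] at hz
  exact Set.disjoint_left.mp ha hz (hg ⟨z, rfl⟩)

/-- The map on sections of a piece. -/
def Idx.h (hg : Set.range g.base ⊆ Set.range ι.base) (i : Idx g ι) :
    (Xh.presheaf.obj (op ((Opens.map ι.base).obj i.U')) : Type u) →+* (Z.presheaf.obj (op i.W) : Type u) :=
  (i.exu hg).choose

theorem Idx.h_spec (i : Idx g ι) : (i.h hg).comp (ι.c.app (op i.U')).hom = i.gmap :=
  (i.exu hg).choose_spec.1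

theorem Idx.h_unique (i : Idx g ι) {φ} (hφ : φ.comp (ι.c.app (op i.U')).hom = i.gmap) : φ = i.h hg :=
  (i.exu hg).choose_spec.2 φ hφ

theorem Idx.h_res (i j : Idx g ι) (hW : j.W ≤ i.W) (hU : j.U' ≤ i.U')
    (s : (Xh.presheaf.obj (op ((Opens.map ι.base).obj i.U')) : Type u)) :
    res hW (i.h hg s) = j.h hg (res ((Opens.map ι.base).map (homOfLE hU)).le s) := by
  let i' : Idx g ι := ⟨j.W, i.U', j.hW, i.hU, hW.trans i.le⟩
  have e1 : (res hW).comp (i.h hg) = i'.h hg := by
    refine i'.h_unique hg ?_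
    rw [RingHom.comp_assoc, i.h_spec hg]
    ext a
    exact res_res _ _ _
  have e2 : (j.h hg).comp (res ((Opens.map ι.base).map (homOfLE hU)).le) = i'.h hg := by
    refine i'.h_unique hg ?_
    ext a
    show j.h hg (res _ (ι.c.app (op i.U') a)) = res i'.le (g.c.app (op i.U') a)
    rw [← app_res]
    show ((j.h hg).comp (ι.c.app (op j.U')).hom) (res hU a) = _
    rw [j.h_spec hg]
    show res j.le (g.c.app (op j.U') (res hU a)) = _
    rw [app_res, res_res]
  exact (RingHom.congr_fun e1 s).trans (RingHom.congr_fun e2 s).symm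

include hZ hX hι in
/-- Two indices give the same restriction on common opens. -/
theorem agree (i j : Idx g ι) {V : Opens Z} (hi : V ≤ i.W) (hj : V ≤ j.W) {U : Opens Xh}
    (hiU : (Opens.map ι.base).obj i.U' ≤ U) (hjU : (Opens.map ι.base).obj j.U' ≤ U)
    (s : (Xh.presheaf.obj (op U) : Type u)) :
    res hi (i.h hg (res hiU s)) = res hj (j.h hg (res hjU s)) := by
  have hp : ∀ z : V, ∃ k : Idx g ι, z.1 ∈ k.W ∧ k.W ≤ V ∧ k.U' ≤ i.U' ∧ k.U' ≤ j.U' := by
    rintro ⟨z, hz⟩
    obtain ⟨U₃, hU₃, hz₃, hle⟩ := hX (g.base z) (i.U' ⊓ j.U') (hg ⟨z, rfl⟩)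
      ⟨i.le (hi hz), j.le (hj hz)⟩
    obtain ⟨W₃, hW₃, hzW, hWle⟩ := hZ z (V ⊓ (Opens.map g.base).obj U₃) ⟨hz, hz₃⟩
    exact ⟨⟨W₃, U₃, hW₃, hU₃, hWle.trans inf_le_right⟩, hzW, hWle.trans inf_le_left,
      hle.trans inf_le_left, hle.trans inf_le_right⟩
  choose k hk hkV hki hkj using hp
  refine TopCat.Sheaf.eq_of_locally_eq' Z.sheaf (fun z : V => (k z).W) V (fun z => homOfLE (hkV z))
    (fun z hz => Opens.mem_iSup.mpr ⟨⟨z, hz⟩, hk ⟨z, hz⟩⟩) _ _ fun z => ?_
  show res (hkV z) (res hi _) = res (hkV z) (res hj _)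
  rw [res_res, res_res, i.h_res hg (k z) _ (hki z), j.h_res hg (k z) _ (hkj z), res_res, res_res]

variable (b : Z.toTopCat ⟶ Xh.toTopCat) (hb : ∀ z, ι.base (b z) = g.base z)

include hb in
theorem Idx.le' (i : Idx g ι) {U : Opens Xh} (hU : (Opens.map ι.base).obj i.U' ≤ U) :
    i.W ≤ (Opens.map b).obj U := fun z hz => hU (show ι.base (b z) ∈ i.U' by rw [hb]; exact i.le hz)

include hZ hX hι hg in
theorem exu_sections (U : Opens Xh) (s : (Xh.presheaf.obj (op U) : Type u)) :
    ∃! t : (Z.presheaf.obj (op ((Opens.map b).obj U)) : Type u),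
      ∀ (i : Idx g ι) (hi : (Opens.map ι.base).obj i.U' ≤ U),
        res (i.le' b hb hi) t = i.h hg (res hi s) := by
  let I := {i : Idx g ι // (Opens.map ι.base).obj i.U' ≤ U}
  have hcov : ∀ z ∈ (Opens.map b).obj U, ∃ i : I, z ∈ i.1.W := by
    intro z hz
    obtain ⟨O, hO, hOU⟩ := hι.isInducing.isOpen_iff.mp U.2
    obtain ⟨U₃, hU₃, hz₃, hle⟩ := hX (g.base z) ⟨O, hO⟩ (hg ⟨z, rfl⟩) (by
      show g.base z ∈ O
      rw [← hb]
      exact (Set.ext_iff.mp hOU (b z)).mpr hz)
    obtain ⟨W₃, hW₃, hzW, hWle⟩ := hZ z ((Opens.map g.base).obj U₃) hz₃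
    exact ⟨⟨⟨W₃, U₃, hW₃, hU₃, hWle⟩, fun v hv => (Set.ext_iff.mp hOU v).mp (hle hv)⟩, hzW⟩
  obtain ⟨t, ht, huniq⟩ := TopCat.Sheaf.existsUnique_gluing' Z.sheaf (fun i : I => i.1.W)
    ((Opens.map b).obj U) (fun i => homOfLE (i.1.le' b hb i.2))
    (fun z hz => Opens.mem_iSup.mpr (hcov z hz))
    (fun i => i.1.h hg (res i.2 s))
    (fun i j => agree hZ hX hι hg i.1 j.1 inf_le_left inf_le_right i.2 j.2 s)
  exact ⟨t, fun i hi => ht ⟨i, hi⟩, fun t' ht' => huniq t' fun i => ht' i.1 i.2⟩

/-- The map on sections. -/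
def appFun (U : Opens Xh) (s : (Xh.presheaf.obj (op U) : Type u)) :
    (Z.presheaf.obj (op ((Opens.map b).obj U)) : Type u) :=
  (exu_sections hZ hX hι hg b hb U s).choose

theorem appFun_spec (U : Opens Xh) (s : (Xh.presheaf.obj (op U) : Type u)) (i : Idx g ι)
    (hi : (Opens.map ι.base).obj i.U' ≤ U) :
    res (i.le' b hb hi) (appFun hZ hX hι hg b hb U s) = i.h hg (res hi s) :=
  (exu_sections hZ hX hι hg b hb U s).choose_spec.1 i hi

theorem appFun_unique (U : Opens Xh) (s : (Xh.presheaf.obj (op U) : Type u))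
    (t : (Z.presheaf.obj (op ((Opens.map b).obj U)) : Type u))
    (h : ∀ (i : Idx g ι) (hi : (Opens.map ι.base).obj i.U' ≤ U),
      res (i.le' b hb hi) t = i.h hg (res hi s)) : t = appFun hZ hX hι hg b hb U s :=
  (exu_sections hZ hX hι hg b hb U s).choose_spec.2 t h

/-- The map on sections as a ring map. -/
def appHom (U : Opens Xh) :
    (Xh.presheaf.obj (op U) : Type u) →+* (Z.presheaf.obj (op ((Opens.map b).obj U)) : Type u) where
  toFun := appFun hZ hX hι hg b hb U
  map_one' := (appFun_unique hZ hX hι hg b hb U _ _ fun i hi => by simp only [map_one]).symm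
  map_zero' := (appFun_unique hZ hX hι hg b hb U _ _ fun i hi => by simp only [map_zero]).symm
  map_add' x y := (appFun_unique hZ hX hι hg b hb U _ _ fun i hi => by
    simp only [map_add, appFun_spec hZ hX hι hg b hb U _ i hi]).symm
  map_mul' x y := (appFun_unique hZ hX hι hg b hb U _ _ fun i hi => by
    simp only [map_mul, appFun_spec hZ hX hι hg b hb U _ i hi]).symm

/-- The lifted morphism of presheafed spaces. -/
def liftPS : Z.toPresheafedSpace ⟶ Xh.toPresheafedSpace where
  base := b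
  c :=
    { app := fun U => CommRingCat.ofHom (appHom hZ hX hι hg b hb U.unop)
      naturality := fun U V f => by
        ext s
        refine (appFun_unique hZ hX hι hg b hb V.unop _ _ fun i hi => ?_).symm
        show res _ (res ((Opens.map b).map f.unop).le (appFun hZ hX hι hg b hb U.unop s)) =
          i.h hg (res hi (res f.unop.le s))
        rw [res_res, res_res, appFun_spec hZ hX hι hg b hb U.unop s i (hi.trans f.unop.le)] }

theorem isLocalHom_stalkMap (z : Z) : IsLocalHom ((liftPS hZ hX hι hg b hb).stalkMap z).hom := by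
  refine ⟨fun e he => ?_⟩
  obtain ⟨U, hzU, s, rfl⟩ := TopCat.Presheaf.germ_exist Xh.presheaf e
  obtain ⟨O, hO, hOU⟩ := hι.isInducing.isOpen_iff.mp U.2
  obtain ⟨U', hU', hz', hle⟩ := hX (g.base z) ⟨O, hO⟩ (hg ⟨z, rfl⟩) (by
    show g.base z ∈ O
    rw [← hb]
    exact (Set.ext_iff.mp hOU (b z)).mpr hzU)
  obtain ⟨W, hW, hzW, hWle⟩ := hZ z ((Opens.map g.base).obj U') hz'
  let i : Idx g ι := ⟨W, U', hW, hU', hWle⟩
  have hiU : (Opens.map ι.base).obj U' ≤ U := fun v hv => (Set.ext_iff.mp hOU v).mp (hle hv)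
  have hbz : b z ∈ (Opens.map ι.base).obj U' := show ι.base (b z) ∈ U' by rw [hb]; exact hz'
  let s' := res hiU s
  -- the image germ is the germ of `h s'`
  let χ₁ := (Z.presheaf.germ W z hzW).hom.comp (i.h hg)
  let χ₂ := (Xh.presheaf.germ ((Opens.map ι.base).obj U') (b z) hbz).hom
  have h1 : IsUnit (χ₁ s') := by
    show IsUnit (Z.presheaf.germ W z hzW (i.h hg s'))
    rw [← appFun_spec hZ hX hι hg b hb U s i hiU]
    show IsUnit (Z.presheaf.germ W z hzW ((Z.presheaf.map (homOfLE (i.le' b hb hiU)).op) _))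
    rw [TopCat.Presheaf.germ_res_apply]
    have := PresheafedSpace.stalkMap_germ (liftPS hZ hX hι hg b hb) U z hzU
    exact (congrArg (fun φ => φ.hom s) this) ▸ he
  obtain ⟨a, ha⟩ := hU'.exists_sub_mem s'
  have hspan : ∀ x ∈ Ideal.span ((appR ι U') ''
      {a | Disjoint (bo (U := U') a : Set X) (Set.range ι.base)}),
      χ₁ x ∈ IsLocalRing.maximalIdeal (Z.presheaf.stalk z) ∧
        χ₂ x ∈ IsLocalRing.maximalIdeal (Xh.presheaf.stalk (b z)) := by
    intro x hx
    refine (Ideal.span_le (I := (IsLocalRing.maximalIdeal (Z.presheaf.stalk z)).comap χ₁ ⊓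
      (IsLocalRing.maximalIdeal (Xh.presheaf.stalk (b z))).comap χ₂)).mpr ?_ hx
    rintro _ ⟨c, hc, rfl⟩
    constructor
    · show χ₁ _ ∈ nonunits _
      intro hu
      have hu' : IsUnit (Z.presheaf.germ W z hzW (i.gmap c)) := by
        rw [← i.h_spec hg]; exact hu
      have hmem : z ∈ Z.toRingedSpace.basicOpen (i.gmap c) :=
        (Z.toRingedSpace.mem_basicOpen _ z hzW).mpr hu'
      rw [show i.gmap c = res i.le (g.c.app (op U') c) from rfl, basicOpen_resTo] at hmem
      have h2 := hmem.2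
      rw [← LocallyRingedSpace.preimage_basicOpen] at h2
      exact Set.disjoint_left.mp hc h2 (hg ⟨z, rfl⟩)
    · show χ₂ _ ∈ nonunits _
      intro hu
      have hmem : b z ∈ Xh.toRingedSpace.basicOpen (ι.c.app (op U') c) :=
        (Xh.toRingedSpace.mem_basicOpen _ _ hbz).mpr hu
      rw [← LocallyRingedSpace.preimage_basicOpen] at hmem
      exact Set.disjoint_left.mp hc hmem ⟨b z, rfl⟩
  have h2 : IsUnit (χ₁ ((appR ι U') a)) := by
    by_contra hcon
    refine (IsLocalRing.mem_maximalIdeal _).mp ?_ h1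
    rw [show χ₁ s' = χ₁ (s' - (appR ι U') a) + χ₁ ((appR ι U') a) by
      rw [← map_add, sub_add_cancel]]
    exact Ideal.add_mem _ (hspan _ ha).1 hcon
  have h3 : IsUnit (χ₂ ((appR ι U') a)) := by
    have hu' : IsUnit (Z.presheaf.germ W z hzW (i.gmap a)) := by
      rw [← i.h_spec hg]; exact h2
    have hmem : z ∈ Z.toRingedSpace.basicOpen (i.gmap a) :=
      (Z.toRingedSpace.mem_basicOpen _ z hzW).mpr hu'
    rw [show i.gmap a = res i.le (g.c.app (op U') a) from rfl, basicOpen_resTo] at hmem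
    have h4 := hmem.2
    rw [← LocallyRingedSpace.preimage_basicOpen] at h4
    have h5 : b z ∈ Xh.toRingedSpace.basicOpen (ι.c.app (op U') a) := by
      rw [← LocallyRingedSpace.preimage_basicOpen]
      show ι.base (b z) ∈ X.toRingedSpace.basicOpen a
      rw [hb]
      exact h4
    exact (Xh.toRingedSpace.mem_basicOpen _ _ hbz).mp h5
  have h6 : IsUnit (χ₂ s') := by
    by_contra hcon
    refine (IsLocalRing.mem_maximalIdeal _).mp ?_ h3
    rw [show χ₂ ((appR ι U') a) = χ₂ s' - χ₂ (s' - (appR ι U') a) by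
      rw [← map_sub, sub_sub_cancel]]
    exact Ideal.sub_mem _ hcon (hspan _ ha).2
  have h7 : χ₂ s' = Xh.presheaf.germ U (b z) hzU s := by
    show Xh.presheaf.germ _ (b z) hbz ((Xh.presheaf.map (homOfLE hiU).op) s) = _
    rw [TopCat.Presheaf.germ_res_apply]
  exact h7 ▸ h6

include hZ hX hι hg in
/-- Existence and uniqueness of the lift. -/
theorem existsUnique_lift : ∃! g' : Z ⟶ Xh, g' ≫ ι = g := by
  choose bf hbf using fun z => hg ⟨z, rfl⟩
  let b : Z.toTopCat ⟶ Xh.toTopCat := TopCat.ofHom ⟨bf, by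
    rw [hι.continuous_iff]
    have : ι.base ∘ bf = g.base := funext hbf
    rw [this]
    exact g.base.hom.continuous⟩
  have hb : ∀ z, ι.base (b z) = g.base z := hbf
  clear_value b
  let g' : Z ⟶ Xh := ⟨liftPS hZ hX hι hg b hb, isLocalHom_stalkMap hZ hX hι hg b hb⟩
  have hbase : g'.base ≫ ι.base = g.base := TopCat.ext hb
  refine ⟨g', ?_, fun g'' hg'' => ?_⟩
  · apply LocallyRingedSpace.Hom.ext'
    refine PresheafedSpace.ext _ _ hbase ?_
    refine NatTrans.ext (funext fun V => CommRingCat.hom_ext (RingHom.ext fun a => ?_))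
    have e : (Opens.map (g'.base ≫ ι.base)).obj V.unop = (Opens.map g.base).obj V.unop := by rw [hbase]
    show res e.ge (appFun hZ hX hι hg b hb _ (ι.c.app V a)) = g.c.app V a
    have hp : ∀ z : (Opens.map g.base).obj V.unop, ∃ i : Idx g ι, z.1 ∈ i.W ∧ i.U' ≤ V.unop := by
      rintro ⟨z, hz⟩
      obtain ⟨U', hU', hz', hle⟩ := hX (g.base z) V.unop (hg ⟨z, rfl⟩) hz
      obtain ⟨W, hW, hzW, hWle⟩ := hZ z ((Opens.map g.base).obj U') hz'
      exact ⟨⟨W, U', hW, hU', hWle⟩, hzW, hle⟩
    choose i hi hiV using hp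
    refine TopCat.Sheaf.eq_of_locally_eq' Z.sheaf (fun z : (Opens.map g.base).obj V.unop => (i z).W) _
      (fun z => homOfLE ((i z).le.trans ((Opens.map g.base).map (homOfLE (hiV z))).le))
      (fun z hz => Opens.mem_iSup.mpr ⟨⟨z, hz⟩, hi ⟨z, hz⟩⟩) _ _ fun z => ?_
    show res _ (res _ _) = res _ _
    refine (res_res (X := Z) _ _ _).trans ?_
    refine (appFun_spec hZ hX hι hg b hb _ _ (i z) ((Opens.map ι.base).map (homOfLE (hiV z))).le).trans ?_
    rw [      show ι.c.app V a = ι.c.app (op V.unop) a from rfl, ← app_res]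
    show ((i z).h hg).comp (ι.c.app (op (i z).U')).hom (res (hiV z) a) = _
    rw [(i z).h_spec hg]
    show res _ (g.c.app (op (i z).U') (res (hiV z) a)) = _
    rw [app_res, res_res]
  · subst hg''
    obtain ⟨⟨b'', c''⟩, l''⟩ := g''
    obtain rfl : b = b'' := TopCat.ext fun z => hι.injective (hb z)
    apply LocallyRingedSpace.Hom.ext'
    show PresheafedSpace.Hom.mk b c'' = _
    refine congrArg (PresheafedSpace.Hom.mk b) ?_
    refine NatTrans.ext (funext fun U => CommRingCat.hom_ext (RingHom.ext fun s => ?_))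
    refine appFun_unique hZ hX hι hg b hb U.unop s _ fun i hi => ?_
    let φ : (Xh.presheaf.obj (op ((Opens.map ι.base).obj i.U')) : Type u) →+*
        (Z.presheaf.obj (op i.W) : Type u) :=
      (res (i.le' b hb le_rfl)).comp (c''.app (op ((Opens.map ι.base).obj i.U'))).hom
    have hφ : φ = i.h hg := i.h_unique hg (by ext a; rfl)
    rw [← hφ]
    show _ = res _ (c''.app _ (Xh.presheaf.map (homOfLE hi).op s))
    exact ((congrArg (res (i.le' b hb le_rfl))
      (congrArg (fun φ => φ.hom s) (c''.naturality (homOfLE hi).op))).trans (res_res _ _ _)).symm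

end Core

end Groth.HensScheme
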