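import Groth.Agent.HensScheme.Charts
import Groth.Agent.QCohMod.Affine
import Mathlib.LinearAlgebra.TensorProduct.Tower

/-!
# The stalk of the inverse image of a module on a scheme along a morphism of locally ringed spaces
-/

set_option autoImplicit false
set_option backward.isDefEq.respectTransparency.types false
set_option backward.isDefEq.respectTransparency false
set_option maxHeartbeats 1000000
universe u

open CategoryTheory Limits AlgebraicGeometry Opposite TopologicalSpace TensorProduct

namespace Groth.HensScheme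

variable {Z : LocallyRingedSpace.{u}}

section Mods

/-- Sections of a sheaf of modules on a locally ringed space. -/
abbrev msec (P : ModSite.Mod Z.sheaf) (U : Opens Z) : Type u := P.val.obj (op U)

noncomputable instance msecModule (P : ModSite.Mod Z.sheaf) (U : Opens Z) :
    Module (Z.presheaf.obj (op U) : Type u) (msec P U) :=
  (P.val.obj (op U)).isModule

/-- The stalk of a sheaf of modules. -/
abbrev mstalk (P : ModSite.Mod Z.sheaf) (z : Z) : Type u :=
  (TopCat.Presheaf.stalk P.val.presheaf z : AddCommGrpCat.{u})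

noncomputable instance mstalkModule (P : ModSite.Mod Z.sheaf) (z : Z) :
    Module (Z.presheaf.stalk z : Type u) (mstalk P z) :=
  inferInstanceAs (Module (Z.presheaf.stalk z : Type u)
    (TopCat.Presheaf.stalk
      (show PresheafOfModules.{u} (Z.presheaf ⋙ forget₂ CommRingCat RingCat) from P.val).presheaf z :
      AddCommGrpCat.{u}))

/-- Germs of sections. -/
noncomputable abbrev mgerm (P : ModSite.Mod Z.sheaf) {U : Opens Z} (z : Z) (hz : z ∈ U) :
    msec P U →+ mstalk P z :=
  (TopCat.Presheaf.germ P.val.presheaf U z hz).hom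

/-- Restriction of sections. -/
noncomputable abbrev mres (P : ModSite.Mod Z.sheaf) {U V : Opens Z} (h : V ≤ U) :
    msec P U →+ msec P V :=
  (P.val.presheaf.map (homOfLE h).op).hom

theorem mgerm_res (P : ModSite.Mod Z.sheaf) {U V : Opens Z} (h : V ≤ U) (z : Z) (hz : z ∈ V)
    (m : msec P U) : mgerm P z hz (mres P h m) = mgerm P z (h hz) m :=
  TopCat.Presheaf.germ_res_apply P.val.presheaf (homOfLE h) z hz m

theorem mgerm_smul (P : ModSite.Mod Z.sheaf) {U : Opens Z} (z : Z) (hz : z ∈ U)
    (r : (Z.presheaf.obj (op U) : Type u)) (m : msec P U) :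
    mgerm P z hz (r • m) = Z.presheaf.germ U z hz r • mgerm P z hz m :=
  PresheafOfModules.germ_smul (R := Z.presheaf)
    (show PresheafOfModules.{u} (Z.presheaf ⋙ forget₂ CommRingCat RingCat) from P.val) z U hz r m

theorem exists_mgerm (P : ModSite.Mod Z.sheaf) (z : Z) (t : mstalk P z) :
    ∃ (U : Opens Z) (hz : z ∈ U) (m : msec P U), mgerm P z hz m = t :=
  TopCat.Presheaf.exists_germ_eq P.val.presheaf t

variable (z : Z) (N : Type u) [AddCommGroup N] [Module (Z.presheaf.stalk z : Type u) N]

/-- Sections over `U` of the skyscraper module at `z` with value `N`. -/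
abbrev ZSkyObj (U : Opens Z) : Type u := PLift.{0} (z ∈ U) → N

noncomputable instance zSkyModule (U : Opens Z) :
    Module (Z.presheaf.obj (op U) : Type u) (ZSkyObj z N U) where
  smul r s := fun h ↦ Z.presheaf.germ U z h.down r • s h
  one_smul s := funext fun h ↦ by
    change Z.presheaf.germ U z h.down 1 • s h = s h
    rw [map_one, one_smul]
  mul_smul r r' s := funext fun h ↦ by
    change Z.presheaf.germ U z h.down (r * r') • s h = _
    rw [map_mul, mul_smul]; rfl
  smul_zero r := funext fun h ↦ smul_zero (Z.presheaf.germ U z h.down r)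
  smul_add r s s' := funext fun h ↦ smul_add (Z.presheaf.germ U z h.down r) _ _
  add_smul r r' s := funext fun h ↦ by
    change Z.presheaf.germ U z h.down (r + r') • s h = _
    rw [map_add, add_smul]; rfl
  zero_smul s := funext fun h ↦ by
    change Z.presheaf.germ U z h.down 0 • s h = _
    rw [map_zero, zero_smul]; rfl

noncomputable instance (U : (Opens Z)ᵒᵖ) :
    Module ((ModSite.ringSh Z.sheaf).obj.obj U) (ZSkyObj z N U.unop) :=
  zSkyModule z N U.unop

/-- The skyscraper module, as a presheaf. -/
noncomputable def zSkyPre : PresheafOfModules.{u} (ModSite.ringSh Z.sheaf).obj where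
  obj U := ModuleCat.of _ (ZSkyObj z N U.unop)
  map {U V} i := ModuleCat.ofHom
      (Y := (ModuleCat.restrictScalars ((ModSite.ringSh Z.sheaf).obj.map i).hom).obj
        (ModuleCat.of _ (ZSkyObj z N V.unop)))
    { toFun := fun s h ↦ s ⟨leOfHom i.unop h.down⟩
      map_add' := fun _ _ ↦ rfl
      map_smul' := fun r s ↦ funext fun h ↦ congrArg (· • s ⟨leOfHom i.unop h.down⟩)
        (TopCat.Presheaf.germ_res_apply Z.presheaf i.unop z h.down r).symm }
  map_id U := by ext; rfl
  map_comp i j := by ext; rfl

theorem zSkyPre_isSheaf : Presheaf.IsSheaf (Opens.grothendieckTopology Z) (zSkyPre z N).presheaf := by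
  change TopCat.Presheaf.IsSheaf (zSkyPre z N).presheaf
  rw [TopCat.Presheaf.isSheaf_iff_isSheafUniqueGluing]
  intro ι U sf hsf
  classical
  refine ⟨fun h ↦ ?_, fun i ↦ ?_, fun s hs ↦ ?_⟩
  · have hi := Opens.mem_iSup.mp h.down
    exact sf hi.choose ⟨hi.choose_spec⟩
  · funext h
    have hi : ∃ j, z ∈ U j := ⟨i, h.down⟩
    exact (congrFun (hsf i hi.choose) ⟨⟨h.down, hi.choose_spec⟩⟩).symm
  · funext h
    have hi := Opens.mem_iSup.mp h.down
    exact congrFun (hs hi.choose) ⟨hi.choose_spec⟩

/-- The skyscraper module at `z` with value `N`. -/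
noncomputable def zsky : ModSite.Mod Z.sheaf where
  val := zSkyPre z N
  isSheaf := zSkyPre_isSheaf z N

variable {z N}

/-- A compatible, semilinear family of maps to `N` gives a morphism to the skyscraper module. -/
noncomputable def toZSky (P : ModSite.Mod Z.sheaf) (t : ∀ (U : Opens Z), z ∈ U → (msec P U →+ N))
    (hres : ∀ (U V : Opens Z) (h : V ≤ U) (hz : z ∈ V) (m : msec P U),
      t V hz (mres P h m) = t U (h hz) m)
    (hsmul : ∀ (U : Opens Z) (hz : z ∈ U) (r : (Z.presheaf.obj (op U) : Type u)) (m : msec P U),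
      t U hz (r • m) = Z.presheaf.germ U z hz r • t U hz m) : P ⟶ zsky z N :=
  ⟨{ app := fun U ↦ ModuleCat.ofHom (X := P.val.obj U) (Y := ZSkyObj z N U.unop)
      { toFun := fun m h ↦ t U.unop h.down m
        map_add' := fun m m' ↦ funext fun h ↦ (t U.unop h.down).map_add m m'
        map_smul' := fun r m ↦ funext fun h ↦ hsmul U.unop h.down r m }
     naturality := fun {U V} i ↦ by
      ext m
      exact funext fun h ↦ hres U.unop V.unop (leOfHom i.unop) h.down m }⟩

/-- The map on stalks of a morphism to a skyscraper module. -/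
noncomputable def fromZSky {P : ModSite.Mod Z.sheaf} (φ : P ⟶ zsky z N) : mstalk P z →+ N :=
  (colimit.desc ((OpenNhds.inclusion z).op ⋙ P.val.presheaf)
    { pt := AddCommGrpCat.of N
      ι :=
      { app := fun U ↦ AddCommGrpCat.ofHom
          { toFun := fun m ↦ (φ.val.app (op U.unop.1) m : ZSkyObj z N U.unop.1) ⟨U.unop.2⟩
            map_zero' := congrFun ((φ.val.app (op U.unop.1)).hom.map_zero) _
            map_add' := fun m m' ↦ congrFun ((φ.val.app (op U.unop.1)).hom.map_add m m') _ }
        naturality := fun U V i ↦ by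
          ext m
          exact congrFun (PresheafOfModules.naturality_apply φ.val ((OpenNhds.inclusion z).map i.unop).op m)
            ⟨V.unop.2⟩ } }).hom

theorem fromZSky_germ {P : ModSite.Mod Z.sheaf} (φ : P ⟶ zsky z N) {U : Opens Z} (hz : z ∈ U)
    (m : msec P U) : fromZSky φ (mgerm P z hz m) = (φ.val.app (op U) m : ZSkyObj z N U) ⟨hz⟩ :=
  ConcreteCategory.congr_hom (colimit.ι_desc
    (F := (OpenNhds.inclusion z).op ⋙ P.val.presheaf) _ (op ⟨U, hz⟩)) m

theorem fromZSky_smul {P : ModSite.Mod Z.sheaf} (φ : P ⟶ zsky z N) (r : (Z.presheaf.stalk z : Type u))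
    (t : mstalk P z) : fromZSky φ (r • t) = r • fromZSky φ t := by
  obtain ⟨U, hzU, r, rfl⟩ := TopCat.Presheaf.exists_germ_eq Z.presheaf r
  obtain ⟨V, hzV, m, rfl⟩ := exists_mgerm P z t
  have hzW : z ∈ U ⊓ V := ⟨hzU, hzV⟩
  rw [← TopCat.Presheaf.germ_res_apply Z.presheaf (homOfLE (inf_le_left : U ⊓ V ≤ U)) z hzW r,
    ← mgerm_res P (inf_le_right : U ⊓ V ≤ V) z hzW m, ← mgerm_smul, fromZSky_germ, fromZSky_germ]
  exact congrFun ((φ.val.app (op (U ⊓ V))).hom.map_smul
    (Z.presheaf.map (homOfLE (inf_le_left : U ⊓ V ≤ U)).op r) (mres P inf_le_right m)) ⟨hzW⟩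

end Mods

section PullbackStalk

variable {X : Scheme.{u}} (g : Z ⟶ X.toLocallyRingedSpace) (M : X.Modules) (z : Z)

/-- The algebra structure `O_{X, g z} → O_{Z, z}`. -/
@[reducible]
noncomputable def lrsStalkAlg :
    Algebra (X.presheaf.stalk (g.base z) : Type u) (Z.presheaf.stalk z : Type u) :=
  (g.stalkMap z).hom.toAlgebra

/-- The stalk map on germs. -/
theorem stalkMap_germ' {U : X.Opens} (hz : g.base z ∈ U) (r : Γ(X, U)) :
    g.stalkMap z (X.presheaf.germ U (g.base z) hz r) =
      Z.presheaf.germ ((Opens.map g.base).obj U) z hz (appR g U r) :=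
  congrArg (fun ψ => ψ.hom r)
    (PresheafedSpace.stalkMap_germ (X := Z.toPresheafedSpace) (Y := X.toPresheafedSpace) g.toHom U z hz)

/-- The inverse image of a module on a scheme. -/
noncomputable abbrev gpull : ModSite.Mod Z.sheaf := (HensSch.pullMod g).obj M

/-- Pullback of a section. -/
noncomputable def gpullSec (U : X.Opens) : Γ(M, U) →+ msec (gpull g M) ((Opens.map g.base).obj U) :=
  (((HensSch.pullPushAdj g).unit.app M).val.app (op U)).hom.toAddMonoidHom

theorem gpullSec_res {U V : X.Opens} (h : V ≤ U) (m : Γ(M, U)) :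
    gpullSec g M V (QCohMod.res M h m) =
      mres (gpull g M) ((Opens.map g.base).map (homOfLE h)).le (gpullSec g M U m) :=
  PresheafOfModules.naturality_apply ((HensSch.pullPushAdj g).unit.app M).val (homOfLE h).op m

theorem gpullSec_smul (U : X.Opens) (r : Γ(X, U)) (m : Γ(M, U)) :
    gpullSec g M U (r • m) = appR g U r • gpullSec g M U m :=
  ((((HensSch.pullPushAdj g).unit.app M).val.app (op U)).hom.map_smul r m)

/-- `M_{g z} → (g^* M)_z`. -/
noncomputable def gpullGerm : M.presheaf.stalk (g.base z) →+ mstalk (gpull g M) z :=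
  (colimit.desc ((OpenNhds.inclusion (g.base z)).op ⋙ M.presheaf)
    { pt := AddCommGrpCat.of (mstalk (gpull g M) z)
      ι :=
      { app := fun U ↦ AddCommGrpCat.ofHom
          ((mgerm (gpull g M) (U := (Opens.map g.base).obj U.unop.1) z U.unop.2).comp
            (gpullSec g M U.unop.1))
        naturality := fun U V i ↦ by
          ext m
          refine Eq.trans ?_ (mgerm_res (gpull g M) ((Opens.map g.base).map
            ((OpenNhds.inclusion (g.base z)).map i.unop)).le z V.unop.2 _)
          exact congrArg _ (gpullSec_res g M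
            (leOfHom ((OpenNhds.inclusion (g.base z)).map i.unop)) m) } }).hom

theorem gpullGerm_germ {U : X.Opens} (hz : g.base z ∈ U) (m : Γ(M, U)) :
    gpullGerm g M z (QCohMod.germ M (g.base z) hz m) =
      mgerm (gpull g M) (U := (Opens.map g.base).obj U) z hz (gpullSec g M U m) :=
  ConcreteCategory.congr_hom (colimit.ι_desc
    (F := (OpenNhds.inclusion (g.base z)).op ⋙ M.presheaf) _ (op ⟨U, hz⟩)) m

theorem gpullGerm_smul (r : (X.presheaf.stalk (g.base z) : Type u)) (t : M.presheaf.stalk (g.base z)) :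
    gpullGerm g M z (r • t) = g.stalkMap z r • gpullGerm g M z t := by
  obtain ⟨U, hU, r, rfl⟩ := TopCat.Presheaf.exists_germ_eq X.presheaf r
  obtain ⟨V, hV, m, rfl⟩ := QCohMod.exists_germ M (g.base z) t
  have hW : g.base z ∈ U ⊓ V := ⟨hU, hV⟩
  rw [← TopCat.Presheaf.germ_res_apply X.presheaf (homOfLE (inf_le_left : U ⊓ V ≤ U)) (g.base z) hW r,
    ← QCohMod.germ_res M (inf_le_right : U ⊓ V ≤ V) (g.base z) hW m, ← QCohMod.germ_smul,
    gpullGerm_germ, gpullGerm_germ, gpullSec_smul, mgerm_smul]
  congr 1
  exact (stalkMap_germ' g z hW _).symm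

/-- `O_{Z,z} ⊗ M_{g z} → (g^* M)_z`. -/
noncomputable def gpullStalkHom :
    letI := lrsStalkAlg g z
    (Z.presheaf.stalk z : Type u) ⊗[(X.presheaf.stalk (g.base z) : Type u)] M.presheaf.stalk (g.base z)
      →ₗ[(Z.presheaf.stalk z : Type u)] mstalk (gpull g M) z :=
  letI := lrsStalkAlg g z
  letI : Module (X.presheaf.stalk (g.base z) : Type u) (mstalk (gpull g M) z) :=
    Module.compHom _ (g.stalkMap z).hom
  haveI : IsScalarTower (X.presheaf.stalk (g.base z) : Type u) (Z.presheaf.stalk z : Type u)
      (mstalk (gpull g M) z) :=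
    IsScalarTower.of_algebraMap_smul fun _ _ ↦ rfl
  LinearMap.liftBaseChange (Z.presheaf.stalk z : Type u)
    ({ toFun := gpullGerm g M z
       map_add' := map_add _
       map_smul' := gpullGerm_smul g M z } : M.presheaf.stalk (g.base z) →ₗ[(X.presheaf.stalk (g.base z) : Type u)]
        mstalk (gpull g M) z)

theorem gpullStalkHom_tmul (b : (Z.presheaf.stalk z : Type u)) (t : M.presheaf.stalk (g.base z)) :
    letI := lrsStalkAlg g z
    gpullStalkHom g M z (b ⊗ₜ t) = b • gpullGerm g M z t :=
  rfl

/-- The stalk of the inverse image. -/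
theorem gpullStalkHom_bijective : Function.Bijective (gpullStalkHom g M z) := by
  let _ := lrsStalkAlg g z
  set P := gpull g M
  let N := (Z.presheaf.stalk z : Type u) ⊗[(X.presheaf.stalk (g.base z) : Type u)]
    M.presheaf.stalk (g.base z)
  let adj := HensSch.pullPushAdj g
  let T : M ⟶ (HensSch.pushMod g).obj (zsky z N) :=
    ⟨{ app := fun U ↦ ModuleCat.ofHom (X := M.val.obj U)
          (Y := (((HensSch.pushMod g).obj (zsky z N)).val.obj U))
        { toFun := fun m (h : PLift.{0} (g.base z ∈ U.unop)) ↦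
            ((1 : (Z.presheaf.stalk z : Type u)) ⊗ₜ QCohMod.germ M (g.base z) h.down m : N)
          map_add' := fun m m' ↦ funext fun (h : PLift.{0} (g.base z ∈ U.unop)) ↦ by
            show (1 : (Z.presheaf.stalk z : Type u)) ⊗ₜ[(X.presheaf.stalk (g.base z) : Type u)]
              QCohMod.germ M (g.base z) h.down (m + m') = _
            erw [map_add, tmul_add]; rfl
          map_smul' := fun r m ↦ funext fun (h : PLift.{0} (g.base z ∈ U.unop)) ↦ by
            show (1 : (Z.presheaf.stalk z : Type u)) ⊗ₜ[(X.presheaf.stalk (g.base z) : Type u)]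
                QCohMod.germ M (g.base z) h.down (r • m) =
              Z.presheaf.germ ((Opens.map g.base).obj U.unop) z h.down (appR g U.unop r) •
                ((1 : (Z.presheaf.stalk z : Type u)) ⊗ₜ[(X.presheaf.stalk (g.base z) : Type u)]
                  QCohMod.germ M (g.base z) h.down m)
            erw [QCohMod.germ_smul, tmul_smul, ← algebraMap_smul (Z.presheaf.stalk z : Type u)]
            congr 1
            exact stalkMap_germ' g z h.down r }
       naturality := fun {U V} i ↦ by
        ext m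
        exact funext fun (h : PLift.{0} (g.base z ∈ V.unop)) ↦
          congrArg (fun t ↦ (1 : (Z.presheaf.stalk z : Type u)) ⊗ₜ[(X.presheaf.stalk (g.base z) : Type u)] t)
            (QCohMod.germ_res M (leOfHom i.unop) (g.base z) h.down m) }⟩
  let φ : P ⟶ zsky z N := (adj.homEquiv M (zsky z N)).symm T
  have hφ : ∀ {U : X.Opens} (hz : g.base z ∈ U) (m : Γ(M, U)),
      fromZSky φ (gpullGerm g M z (QCohMod.germ M (g.base z) hz m)) =
        1 ⊗ₜ QCohMod.germ M (g.base z) hz m := by
    intro U hz m
    rw [gpullGerm_germ]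
    refine (fromZSky_germ φ (U := (Opens.map g.base).obj U) hz _).trans ?_
    have h : adj.unit.app M ≫ (HensSch.pushMod g).map φ = T :=
      ((adj.homEquiv_unit M (zsky z N) φ).symm).trans
        ((adj.homEquiv M (zsky z N)).apply_symm_apply T)
    exact congrFun congr((SheafOfModules.Hom.val $h).app (op U) m) ⟨hz⟩
  have hleft : ∀ t, fromZSky φ (gpullStalkHom g M z t) = t := by
    intro t
    induction t using TensorProduct.induction_on with
    | zero => simp
    | tmul b t =>
      obtain ⟨U, hz, m, rfl⟩ := QCohMod.exists_germ M (g.base z) t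
      rw [gpullStalkHom_tmul, fromZSky_smul, hφ, smul_tmul', smul_eq_mul, mul_one]
    | add p q hp hq => simp [hp, hq]
  refine ⟨Function.LeftInverse.injective hleft, fun s ↦ ⟨fromZSky φ s, ?_⟩⟩
  let g₁ : P ⟶ zsky z (mstalk P z) := toZSky P (fun U hz ↦ mgerm P z hz)
    (fun U V h hz m ↦ mgerm_res P h z hz m) (fun U hz r m ↦ mgerm_smul P z hz r m)
  let g₂ : P ⟶ zsky z (mstalk P z) := toZSky P
    (fun U hz ↦ (gpullStalkHom g M z).toAddMonoidHom.comp ((fromZSky φ).comp (mgerm P z hz)))
    (fun U V h hz m ↦ congrArg (fun t => gpullStalkHom g M z (fromZSky φ t)) (mgerm_res P h z hz m))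
    (fun U hz r m ↦ by
      show gpullStalkHom g M z (fromZSky φ (mgerm P z hz (r • m))) =
        Z.presheaf.germ U z hz r • gpullStalkHom g M z (fromZSky φ (mgerm P z hz m))
      rw [mgerm_smul, fromZSky_smul, map_smul])
  have hg : g₁ = g₂ := by
    apply (adj.homEquiv M _).injective
    rw [adj.homEquiv_unit, adj.homEquiv_unit]
    refine SheafOfModules.hom_ext (PresheafOfModules.hom_ext fun U => ModuleCat.hom_ext (LinearMap.ext fun m ↦
      funext fun (h : PLift.{0} (g.base z ∈ U.unop)) ↦ ?_))
    show mgerm P z h.down (gpullSec g M U.unop m) =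
      gpullStalkHom g M z (fromZSky φ (mgerm P z h.down (gpullSec g M U.unop m)))
    rw [← gpullGerm_germ, hφ, gpullStalkHom_tmul, one_smul]
  obtain ⟨V, hz, p, rfl⟩ := exists_mgerm P z s
  exact (congrFun congr((SheafOfModules.Hom.val $hg).app (op V) p) ⟨hz⟩).symm

end PullbackStalk

end Groth.HensScheme
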