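import Groth.Agent.HensScheme.Separated
import Groth.Agent.CohC3.FullyFaithful
import Groth.Agent.CohC3.ProperHelpers
import Groth.Agent.CohTwo.Glue

/-!
# Sections and morphisms of coherent modules on the adic henselization of a proper scheme
-/

set_option autoImplicit false
set_option backward.isDefEq.respectTransparency.types false
set_option maxHeartbeats 1000000

universe u

open CategoryTheory CategoryTheory.Limits AlgebraicGeometry Opposite TopologicalSpace
open Groth.CohC3 (baseApp baseApp_res IsQuot isQuot_modPowπ)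

noncomputable section

namespace Groth.HensScheme

variable {A : Type u} [CommRing A] {X : Scheme.{u}} [X.Over (Spec (CommRingCat.of A))] {I : Ideal A}
  {Xh : LocallyRingedSpace.{u}} {ι : Xh ⟶ X.toLocallyRingedSpace}
  (hh : HensSch.IsHenselizationAlong X (adicLocus I) Xh ι)

theorem msection_ext {Z : LocallyRingedSpace.{u}} (P : ModSite.Mod Z.sheaf) {W : Opens Z} (s t : msec P W)
    (h : ∀ (z : Z) (hz : z ∈ W), mgerm P z hz s = mgerm P z hz t) : s = t :=
  TopCat.Presheaf.section_ext (⟨P.val.presheaf, P.isSheaf⟩ : TopCat.Sheaf AddCommGrpCat Z.toTopCat) W s t h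

omit [X.Over (Spec (CommRingCat.of A))] in
theorem pullMap_comp_app {M N P : X.Modules} (f : M ⟶ N) (g : N ⟶ P) (V : Opens Xh) (x : msec (gpull ι M) V) :
    ((HensSch.pullMod ι).map (f ≫ g)).val.app (op V) x =
      ((HensSch.pullMod ι).map g).val.app (op V) (((HensSch.pullMod ι).map f).val.app (op V) x) :=
  congr((SheafOfModules.Hom.val $((HensSch.pullMod ι).map_comp f g)).app (op V) x)

/-- The morphism of completions given by a compatible family. -/
def complHom {M N : X.Modules} (χ : ∀ n, M ⟶ Formal.modPow I (n + 1) N) (hle : ∀ n, I ^ (n + 1) ≤ CohC3.annHom (χ n))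
    (hc : ∀ n, χ (n + 1) ≫ Formal.modPowTrans I (n + 1) N = χ n) :
    Formal.completion I M ⟶ Formal.completion I N :=
  NatTrans.ofOpSequence (fun n => CohC3.modPowDesc I (n + 1) (χ n) (hle n)) fun n => by
    refine (isQuot_modPowπ I (n + 1 + 1) M).hom_ext ?_
    change Formal.modPowπ I (n + 1 + 1) M ≫ CohC3.sysMap (Formal.completion I M) (Nat.le_succ n) ≫ _ =
      Formal.modPowπ I (n + 1 + 1) M ≫ _ ≫ CohC3.sysMap (Formal.completion I N) (Nat.le_succ n)
    erw [CohC3.modPowπ_sysMap_succ_assoc, CohC3.modPowπ_desc, CohC3.modPowπ_desc_assoc]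
    rw [show CohC3.sysMap (Formal.completion I N) (Nat.le_succ n) = Formal.modPowTrans I (n + 1) N from
      CohC3.completion_map_succ I N n]
    exact (hc n).symm

theorem modPowπ_complHom {M N : X.Modules} (χ : ∀ n, M ⟶ Formal.modPow I (n + 1) N)
    (hle : ∀ n, I ^ (n + 1) ≤ CohC3.annHom (χ n))
    (hc : ∀ n, χ (n + 1) ≫ Formal.modPowTrans I (n + 1) N = χ n) (n : ℕ) :
    Formal.modPowπ I (n + 1) M ≫ (complHom χ hle hc).app (op n) = χ n :=
  CohC3.modPowπ_desc I (n + 1) (χ n) (hle n)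

theorem stalk_eq_zero_of_killed {G : X.Modules} {n : ℕ} {x : X} (hx : x ∉ adicLocus I)
    (hG : ∀ k ∈ (I ^ n).map (stalkBase (X := X) x), ∀ t : G.presheaf.stalk x, k • t = 0)
    (t : G.presheaf.stalk x) : t = 0 := by
  rw [mem_adicLocus_iff] at hx
  push Not at hx
  obtain ⟨i, hi, hxi⟩ := hx
  have hu : IsUnit (stalkBase (A := A) x i) :=
    (Scheme.mem_basicOpen X (baseApp X ⊤ i) x trivial).1 hxi
  exact (hu.pow n).smul_eq_zero.1 (hG _ (by rw [← map_pow]; exact Ideal.mem_map_of_mem _ (Ideal.pow_mem_pow hi n)) t)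

variable [IsLocallyNoetherian X]

include hh in
/-- A module killed by a power of `I` has the same sections as its inverse image. -/
theorem gpullSec_bijective_of_killed (G : X.Modules) (n : ℕ)
    (hG : ∀ x, ∀ k ∈ (I ^ n).map (stalkBase (X := X) x), ∀ t : G.presheaf.stalk x, k • t = 0) (U : X.Opens) :
    Function.Bijective (gpullSec ι G U) := by
  classical
  have hsep : ∀ (W : X.Opens) (a b : Γ(G, W)),
      (∀ (z : Xh) (hz : ι.base z ∈ W), gpullGerm ι G z (QCohMod.germ G (ι.base z) hz a) =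
        gpullGerm ι G z (QCohMod.germ G (ι.base z) hz b)) → a = b := by
    intro W a b h
    refine RefRank.mod_section_ext G fun x hx => ?_
    by_cases hxY : x ∈ adicLocus I
    · obtain ⟨z, rfl⟩ : x ∈ Set.range ι.base := hh.2.2.1.symm ▸ hxY
      exact gpullGerm_injective hh G z (h z hx)
    · rw [stalk_eq_zero_of_killed hxY (hG x) (QCohMod.germ G x hx a),
        stalk_eq_zero_of_killed hxY (hG x) (QCohMod.germ G x hx b)]
  refine ⟨fun a b hab => hsep U a b fun z hz => by rw [gpullGerm_germ, gpullGerm_germ, hab], fun t => ?_⟩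
  have hloc : ∀ x : U, ∃ (V : X.Opens) (_ : x.1 ∈ V) (hVU : V ≤ U) (m : Γ(G, V)),
      ∀ (z : Xh) (hz : ι.base z ∈ V), gpullGerm ι G z (QCohMod.germ G (ι.base z) hz m) =
        mgerm (gpull ι G) (U := (Opens.map ι.base).obj U) z (hVU hz) t := by
    rintro ⟨x, hx⟩
    by_cases hxY : x ∈ adicLocus I
    · obtain ⟨z, rfl⟩ : x ∈ Set.range ι.base := hh.2.2.1.symm ▸ hxY
      obtain ⟨e, he⟩ := (gpullGerm_bijective_of_killed hh G n z (hG _)).2
        (mgerm (gpull ι G) (U := (Opens.map ι.base).obj U) z hx t)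
      obtain ⟨V, hzV, m, rfl⟩ := QCohMod.exists_germ G _ e
      rw [gpullGerm_germ] at he
      obtain ⟨W, hzW, i, i', e⟩ := TopCat.Presheaf.germ_eq (gpull ι G).val.presheaf z hzV hx
        (gpullSec ι G V m) t he
      obtain ⟨O, hO, hOW⟩ := hh.2.1.isInducing.isOpen_iff.mp W.2
      let V' : X.Opens := V ⊓ U ⊓ ⟨O, hO⟩
      refine ⟨V', ⟨⟨hzV, hx⟩, (Set.ext_iff.mp hOW z).mpr hzW⟩, inf_le_left.trans inf_le_right,
        QCohMod.res G (inf_le_left.trans inf_le_left : V' ≤ V) m, fun z' hz' => ?_⟩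
      rw [QCohMod.germ_res, gpullGerm_germ]
      exact TopCat.Presheaf.germ_ext (gpull ι G).val.presheaf W ((Set.ext_iff.mp hOW z').mp hz'.2) i i' e
    · exact ⟨U ⊓ ⟨(adicLocus I)ᶜ, hh.1.isOpen_compl⟩, ⟨hx, hxY⟩, inf_le_left, 0, fun z hz =>
        absurd (hh.2.2.1 ▸ (⟨z, rfl⟩ : ι.base z ∈ Set.range ι.base)) hz.2⟩
  choose V hxV hVU m hm using hloc
  obtain ⟨a, ha⟩ := CohTwo.exists_glue G V hVU (fun x hx => ⟨⟨x, hx⟩, hxV _⟩) m fun x y =>
    hsep _ _ _ fun z hz => by
      erw [QCohMod.germ_res, QCohMod.germ_res]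
      rw [hm x z hz.1, hm y z hz.2]
  refine ⟨a, msection_ext _ _ _ fun z hz => ?_⟩
  rw [← gpullGerm_germ (hz := hz), ← hm ⟨ι.base z, hz⟩ z (hxV _), ← ha ⟨ι.base z, hz⟩]
  congr 1
  exact (QCohMod.germ_res G (hVU ⟨ι.base z, hz⟩) (ι.base z) (hxV ⟨ι.base z, hz⟩) a).symm

theorem killed_stalk_modPow (F : X.Modules) [F.IsQuasicoherent] (n : ℕ) (x : X) :
    ∀ k ∈ (I ^ n).map (stalkBase (X := X) x), ∀ t : (Formal.modPow I n F).presheaf.stalk x, k • t = 0 := by
  intro k hk t
  obtain ⟨t, rfl⟩ := stalkMap_surjective_of_isQuot (isQuot_modPowπ I n F) x t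
  exact smul_stalk_eq_zero (isQuot_modPowπ I n F) x hk t

include hh in
/-- Sections of the inverse image of a coherent module are detected modulo the powers of `I`. -/
theorem msec_eq_of_forall_map (F : X.Modules) (hF : Coh.IsCoh F) {W : Opens Xh} (s t : msec (gpull ι F) W)
    (h : ∀ n, ((HensSch.pullMod ι).map (Formal.modPowπ I (n + 1) F)).val.app (op W) s =
      ((HensSch.pullMod ι).map (Formal.modPowπ I (n + 1) F)).val.app (op W) t) : s = t := by
  refine msection_ext _ _ _ fun z hz => sub_eq_zero.1 (eq_zero_of_forall_mstalkMap hh F hF z _ fun n => ?_)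
  rw [map_sub, mstalkMap_germ, mstalkMap_germ, h n, sub_self]

include hh in
theorem gpullSec_top_bijective [IsNoetherianRing A] [IsAdicComplete I A] [IsProper (X ↘ Spec (CommRingCat.of A))]
    (F : X.Modules) (hF : Coh.IsCoh F) : Function.Bijective (gpullSec ι F ⊤) := by
  have := hF.1
  haveI := CohC3.isNoetherian_of_proper A X
  let e := fun n => gpullSec_bijective_of_killed hh (Formal.modPow I (n + 1) F) (n + 1)
    (killed_stalk_modPow F (n + 1)) ⊤
  have hlim : Function.Bijective (Formal.toHHlim I F 0) :=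
    (CohC3.proBij I hF (fun q => CohC3.finite_HH_of_proper A X hF q) 0).toHHlim_bijective
      (CohC3.finite_HH_of_proper A X hF 0)
  have hnat : ∀ n (x : Γ(F, ⊤)), ((HensSch.pullMod ι).map (Formal.modPowπ I (n + 1) F)).val.app _ (gpullSec ι F ⊤ x) =
      gpullSec ι (Formal.modPow I (n + 1) F) ⊤ ((Formal.modPowπ I (n + 1) F).app ⊤ x) := fun n x =>
    (gpullSec_naturality ι _ ⊤ x).symm
  refine ⟨fun a b hab => ?_, fun s => ?_⟩
  · apply (CohC3.secEquiv₀ F).symm.injective
    refine hlim.1 (Subtype.ext (funext fun n => (CohC3.secEquiv₀ (Formal.modPow I (n + 1) F)).injective ?_))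
    show CohC3.secEquiv₀ _ (CohC3.hmap A (Formal.modPowπ I (n + 1) F) 0 _) =
      CohC3.secEquiv₀ _ (CohC3.hmap A (Formal.modPowπ I (n + 1) F) 0 _)
    rw [CohC3.secEquiv₀_hmap, CohC3.secEquiv₀_hmap, AddEquiv.apply_symm_apply, AddEquiv.apply_symm_apply]
    apply (e n).1
    rw [← hnat, ← hnat, hab]
  · choose x hx using fun n => (e n).2
      (((HensSch.pullMod ι).map (Formal.modPowπ I (n + 1) F)).val.app (op ((Opens.map ι.base).obj ⊤)) s)
    let y : Formal.HHlim I F 0 := ⟨fun n => (CohC3.secEquiv₀ (Formal.modPow I (n + 1) F)).symm (x n), fun n => by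
      apply (CohC3.secEquiv₀ (Formal.modPow I (n + 1) F)).injective
      show CohC3.secEquiv₀ _ (CohC3.hmap A (Formal.modPowTrans I (n + 1) F) 0 _) = _
      rw [CohC3.secEquiv₀_hmap, AddEquiv.apply_symm_apply, AddEquiv.apply_symm_apply]
      apply (e n).1
      rw [gpullSec_naturality, hx, hx, ← Formal.modPowπ_trans I (n + 1) F]
      exact (pullMap_comp_app (ι := ι) _ _ _ _).symm⟩
    obtain ⟨z, hz⟩ := hlim.2 y
    refine ⟨CohC3.secEquiv₀ F z, msec_eq_of_forall_map hh F hF _ _ fun n => ?_⟩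
    have h1 : CohC3.secEquiv₀ _ (CohC3.hmap A (Formal.modPowπ I (n + 1) F) 0 z) = x n := by
      rw [show CohC3.hmap A (Formal.modPowπ I (n + 1) F) 0 z = (y : ∀ n, Formal.HHmodPow I F 0 n) n from
        congrArg (fun w : Formal.HHlim I F 0 => (w : ∀ n, Formal.HHmodPow I F 0 n) n) hz]
      exact AddEquiv.apply_symm_apply _ _
    rw [CohC3.secEquiv₀_hmap] at h1
    rw [hnat, h1, hx]

include hh in
theorem pullMod_map_surjective [IsNoetherianRing A] [IsAdicComplete I A] [IsProper (X ↘ Spec (CommRingCat.of A))]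
    (F G : X.Modules) (hF : Coh.IsCoh F) (hG : Coh.IsCoh G) :
    Function.Surjective
      ((HensSch.pullMod ι).map : (F ⟶ G) → ((HensSch.pullMod ι).obj F ⟶ (HensSch.pullMod ι).obj G)) := by
  have := hF.1
  have := hG.1
  haveI := CohC3.isNoetherian_of_proper A X
  intro ψ
  have hiso : ∀ n, IsIso (C := X.Modules) ((HensSch.pullPushAdj ι).unit.app (Formal.modPow I (n + 1) G)) := fun n =>
    Scheme.Modules.Hom.isIso_iff_isIso_app.2 fun U => (ConcreteCategory.isIso_iff_bijective _).2
      (gpullSec_bijective_of_killed hh (Formal.modPow I (n + 1) G) (n + 1) (killed_stalk_modPow G (n + 1)) U)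
  let T : ∀ n, F ⟶ (HensSch.pushMod ι).obj ((HensSch.pullMod ι).obj (Formal.modPow I (n + 1) G)) := fun n =>
    (HensSch.pullPushAdj ι).unit.app F ≫
      (HensSch.pushMod ι).map (ψ ≫ (HensSch.pullMod ι).map (Formal.modPowπ I (n + 1) G))
  let χ : ∀ n, F ⟶ Formal.modPow I (n + 1) G := fun n =>
    haveI := hiso n
    T n ≫ inv (C := X.Modules) ((HensSch.pullPushAdj ι).unit.app (Formal.modPow I (n + 1) G))
  have hχ : ∀ n (U : X.Opens) (m : Γ(F, U)), gpullSec ι _ U ((χ n).app U m) =
      ((HensSch.pullMod ι).map (Formal.modPowπ I (n + 1) G)).val.app _ (ψ.val.app _ (gpullSec ι F U m)) := by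
    intro n U m
    haveI := hiso n
    have h : χ n ≫ (HensSch.pullPushAdj ι).unit.app (Formal.modPow I (n + 1) G) = T n :=
      (Category.assoc _ _ _).trans ((congrArg (T n ≫ ·) (IsIso.inv_hom_id _)).trans (Category.comp_id _))
    exact congr((SheafOfModules.Hom.val $h).app (op U) m)
  have hle : ∀ n, I ^ (n + 1) ≤ CohC3.annHom (χ n) := by
    intro n a ha
    rw [CohC3.mem_annHom]
    refine Scheme.Modules.hom_ext _ _ fun U => AddCommGrpCat.hom_ext (AddMonoidHom.ext fun m => ?_)
    refine RefRank.mod_section_ext _ fun x hx => ?_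
    show QCohMod.germ _ x hx ((χ n).app U (baseApp X U a • m)) = QCohMod.germ _ x hx 0
    rw [Scheme.Modules.Hom.app_smul, QCohMod.germ_smul, ← stalkBase_eq,
      killed_stalk_modPow G (n + 1) x _ (Ideal.mem_map_of_mem _ ha), map_zero]
  have hcompat : ∀ n, χ (n + 1) ≫ Formal.modPowTrans I (n + 1) G = χ n := by
    intro n
    refine Scheme.Modules.hom_ext _ _ fun U => AddCommGrpCat.hom_ext (AddMonoidHom.ext fun m => ?_)
    apply (gpullSec_bijective_of_killed hh (Formal.modPow I (n + 1) G) (n + 1) (killed_stalk_modPow G (n + 1)) U).1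
    show gpullSec ι _ U ((Formal.modPowTrans I (n + 1) G).app U ((χ (n + 1)).app U m)) = gpullSec ι _ U ((χ n).app U m)
    rw [gpullSec_naturality, hχ, hχ, ← Formal.modPowπ_trans I (n + 1) G]
    exact (pullMap_comp_app (ι := ι) _ _ _ _).symm
  let ψc := complHom χ hle hcompat
  have hH := RefRank.isCoh_homSh hF hG
  obtain ⟨φ, hφ, -⟩ := CohC3.existsUnique_hom_of_bijective I hF hG
    ((CohC3.proBij I hH (fun q => CohC3.finite_HH_of_proper A X hH q) 0).toHHlim_bijective
      (CohC3.finite_HH_of_proper A X hH 0)) ψc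
  refine ⟨φ, ((HensSch.pullPushAdj ι).homEquiv F _).injective ?_⟩
  rw [Adjunction.homEquiv_unit, Adjunction.homEquiv_unit]
  refine SheafOfModules.hom_ext (PresheafOfModules.hom_ext fun U => ModuleCat.hom_ext (LinearMap.ext fun m => ?_))
  show ((HensSch.pullMod ι).map φ).val.app _ (gpullSec ι F U.unop m) = ψ.val.app _ (gpullSec ι F U.unop m)
  refine msec_eq_of_forall_map hh G hG _ _ fun n => ?_
  have e : χ n = φ ≫ Formal.modPowπ I (n + 1) G := by
    rw [← hφ n]
    exact (modPowπ_complHom χ hle hcompat n).symm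
  have h4 := hχ n U.unop m
  rw [e] at h4
  refine Eq.trans ?_ h4
  show _ = gpullSec ι _ _ ((Formal.modPowπ I (n + 1) G).app _ (φ.app _ m))
  rw [gpullSec_naturality, gpullSec_naturality]

include hh in
omit [IsLocallyNoetherian X] in
theorem pullMod_map_injective_proper [HenselianRing A I] [IsProper (X ↘ Spec (CommRingCat.of A))]
    (F G : X.Modules) [F.IsQuasicoherent] :
    Function.Injective
      ((HensSch.pullMod ι).map : (F ⟶ G) → ((HensSch.pullMod ι).obj F ⟶ (HensSch.pullMod ι).obj G)) := by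
  haveI : CompactSpace X := QuasiCompact.compactSpace_of_compactSpace (X ↘ Spec (CommRingCat.of A))
  refine pullMod_map_injective (fun x hx => ?_) hh F G
  have h1 := (X ↘ Spec (CommRingCat.of A)).isClosedMap _ hx
  rw [Set.image_singleton] at h1
  have h2 := (PrimeSpectrum.isClosed_singleton_iff_isMaximal _).1 h1
  exact (HenselianRing.jac : I ≤ _).trans (sInf_le ⟨bot_le, h2⟩)

end Groth.HensScheme
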