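import Groth.Agent.HensScheme.Adic
import Groth.Agent.QCohMod.SupportPullback
import Groth.Prelude.Def_RefHull
import Mathlib.RingTheory.Filtration

/-!
# Adic separatedness of the inverse image of a coherent module to the henselization
-/

set_option autoImplicit false
set_option backward.isDefEq.respectTransparency.types false
set_option maxHeartbeats 1000000

universe u

open CategoryTheory CategoryTheory.Limits AlgebraicGeometry Opposite TopologicalSpace TensorProduct
open Groth.CohC3 (baseApp IsQuot isQuot_modPowπ isQCoh_of_isQuot)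

noncomputable section

namespace Groth.HensScheme

section Nat

variable {Z : LocallyRingedSpace.{u}}

/-- The map of stalks of a morphism of sheaves of modules. -/
def mstalkMap {P Q : ModSite.Mod Z.sheaf} (φ : P ⟶ Q) (z : Z) : mstalk P z →+ mstalk Q z :=
  ((TopCat.Presheaf.stalkFunctor AddCommGrpCat.{u} z).map
    ((PresheafOfModules.toPresheaf _).map φ.val)).hom

theorem mstalkMap_germ {P Q : ModSite.Mod Z.sheaf} (φ : P ⟶ Q) {U : Opens Z} (z : Z) (hz : z ∈ U)
    (m : msec P U) : mstalkMap φ z (mgerm P z hz m) = mgerm Q z hz (φ.val.app (op U) m) :=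
  TopCat.Presheaf.stalkFunctor_map_germ_apply U z hz ((PresheafOfModules.toPresheaf _).map φ.val) m

theorem mstalkMap_smul {P Q : ModSite.Mod Z.sheaf} (φ : P ⟶ Q) (z : Z) (r : (Z.presheaf.stalk z : Type u))
    (t : mstalk P z) : mstalkMap φ z (r • t) = r • mstalkMap φ z t := by
  obtain ⟨U, hzU, r, rfl⟩ := TopCat.Presheaf.exists_germ_eq Z.presheaf r
  obtain ⟨V, hzV, m, rfl⟩ := exists_mgerm P z t
  have hzW : z ∈ U ⊓ V := ⟨hzU, hzV⟩
  rw [← TopCat.Presheaf.germ_res_apply Z.presheaf (homOfLE (inf_le_left : U ⊓ V ≤ U)) z hzW r,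
    ← mgerm_res P (inf_le_right : U ⊓ V ≤ V) z hzW m, ← mgerm_smul, mstalkMap_germ, mstalkMap_germ,
    ← mgerm_smul]
  exact congrArg _ ((φ.val.app (op (U ⊓ V))).hom.map_smul
    (Z.presheaf.map (homOfLE (inf_le_left : U ⊓ V ≤ U)).op r) (mres P inf_le_right m))

variable {X : Scheme.{u}} (g : Z ⟶ X.toLocallyRingedSpace) {M N : X.Modules} (φ : M ⟶ N)

theorem gpullSec_naturality (U : X.Opens) (m : Γ(M, U)) :
    gpullSec g N U (φ.app U m) =
      ((HensSch.pullMod g).map φ).val.app (op ((Opens.map g.base).obj U)) (gpullSec g M U m) :=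
  congr((SheafOfModules.Hom.val $((HensSch.pullPushAdj g).unit.naturality φ)).app (op U) m)

theorem gpullGerm_naturality (z : Z) (t : M.presheaf.stalk (g.base z)) :
    mstalkMap ((HensSch.pullMod g).map φ) z (gpullGerm g M z t) =
      gpullGerm g N z (RefHull.stalkMapₗ φ (g.base z) t) := by
  obtain ⟨U, hU, m, rfl⟩ := QCohMod.exists_germ M (g.base z) t
  rw [gpullGerm_germ, mstalkMap_germ]
  refine Eq.trans ?_ (congrArg (gpullGerm g N z) (QCohMod.stalk_map_germ φ (g.base z) hU m).symm)
  rw [gpullGerm_germ, gpullSec_naturality]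

theorem gpullStalkHom_naturality (z : Z) :
    letI := lrsStalkAlg g z
    ∀ t : (Z.presheaf.stalk z : Type u) ⊗[(X.presheaf.stalk (g.base z) : Type u)] M.presheaf.stalk (g.base z),
      mstalkMap ((HensSch.pullMod g).map φ) z (gpullStalkHom g M z t) =
        gpullStalkHom g N z ((RefHull.stalkMapₗ φ (g.base z)).lTensor _ t) := by
  letI := lrsStalkAlg g z
  intro t
  induction t using TensorProduct.induction_on with
  | zero => simp
  | tmul b t =>
    rw [gpullStalkHom_tmul, mstalkMap_smul, gpullGerm_naturality, LinearMap.lTensor_tmul, gpullStalkHom_tmul]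
  | add p q hp hq => simp only [map_add, hp, hq]

end Nat

section Quot

variable {A : Type u} [CommRing A] {X : Scheme.{u}} [X.Over (Spec (CommRingCat.of A))]
  {J : Ideal A} {M G : X.Modules} {p : M ⟶ G}

theorem smul_stalk_eq_zero (h : IsQuot J p) (y : X) {k : (X.presheaf.stalk y : Type u)}
    (hk : k ∈ J.map (stalkBase y)) (t : M.presheaf.stalk y) : k • RefHull.stalkMapₗ p y t = 0 := by
  refine Submodule.span_induction (p := fun k _ => k • RefHull.stalkMapₗ p y t = 0) ?_ (zero_smul _ _)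
    (fun _ _ _ _ h₁ h₂ => by rw [add_smul, h₁, h₂, add_zero])
    (fun r _ _ h₁ => by rw [smul_eq_mul, mul_smul, h₁, smul_zero]) hk
  rintro _ ⟨a, ha, rfl⟩
  obtain ⟨U, hy, m, rfl⟩ := QCohMod.exists_germ M y t
  rw [← map_smul, stalkBase_eq hy, ← QCohMod.germ_smul]
  refine (QCohMod.stalk_map_germ p y hy _).trans ?_
  exact (congrArg (QCohMod.germ G y hy)
    (show (Formal.smulMod A M a ≫ p).app U m = 0 by rw [(CohC3.mem_annHom p a).1 (h.le_ann ha)]; rfl)).trans
    (map_zero _)

theorem stalkMap_surjective_of_isQuot [M.IsQuasicoherent] (h : IsQuot J p) (y : X) :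
    Function.Surjective (RefHull.stalkMapₗ p y) := by
  intro t
  have := isQCoh_of_isQuot h
  obtain ⟨U, hU, hy, -⟩ := exists_isAffineOpen_mem_and_subset (U := (⊤ : X.Opens)) (x := y) trivial
  obtain ⟨a, m, ha, hm⟩ := QCohMod.exists_smul_germ_eq G hU y hy t
  obtain ⟨m', rfl⟩ := h.app_surjective hU m
  obtain ⟨u, hu⟩ := (Scheme.mem_basicOpen X a y hy).1 ha
  refine ⟨(↑u⁻¹ : (X.presheaf.stalk y : Type u)) • QCohMod.germ M y hy m', ?_⟩
  rw [map_smul, show RefHull.stalkMapₗ p y (QCohMod.germ M y hy m') = QCohMod.germ G y hy (p.app U m') from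
    QCohMod.stalk_map_germ p y hy m', ← hm, ← hu, smul_smul, Units.inv_mul, one_smul]

theorem mem_smul_of_stalkMap_eq_zero [M.IsQuasicoherent] (h : IsQuot J p) (y : X) {t : M.presheaf.stalk y}
    (ht : RefHull.stalkMapₗ p y t = 0) :
    t ∈ J.map (stalkBase y) • (⊤ : Submodule (X.presheaf.stalk y : Type u) (M.presheaf.stalk y)) := by
  have := isQCoh_of_isQuot h
  obtain ⟨U, hU, hy, -⟩ := exists_isAffineOpen_mem_and_subset (U := (⊤ : X.Opens)) (x := y) trivial
  obtain ⟨a, m, ha, hm⟩ := QCohMod.exists_smul_germ_eq M hU y hy t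
  have hm0 : QCohMod.germ G y hy (p.app U m) = 0 := by
    refine (QCohMod.stalk_map_germ p y hy m).symm.trans ?_
    show RefHull.stalkMapₗ p y (QCohMod.germ M y hy m) = 0
    rw [← hm, map_smul, ht, smul_zero]
  obtain ⟨b, hb, hbm⟩ := QCohMod.exists_smul_eq_zero_of_germ_eq_zero G hU y hy _ hm0
  have hmem : b • m ∈ (J.map (baseApp X U)) • (⊤ : Submodule Γ(X, U) Γ(M, U)) :=
    (h.app_eq_zero_iff _ hU).1 (by rw [Scheme.Modules.Hom.app_smul, hbm])
  have key : ∀ x ∈ (J.map (baseApp X U)) • (⊤ : Submodule Γ(X, U) Γ(M, U)), QCohMod.germ M y hy x ∈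
      J.map (stalkBase y) • (⊤ : Submodule (X.presheaf.stalk y : Type u) (M.presheaf.stalk y)) := by
    intro x hx
    refine Submodule.smul_induction_on hx (fun r hr w _ => ?_) fun w w' hw hw' => by
      rw [map_add]; exact add_mem hw hw'
    rw [QCohMod.germ_smul]
    refine Submodule.smul_mem_smul ?_ Submodule.mem_top
    have h4 := Ideal.mem_map_of_mem (X.presheaf.germ U y hy).hom hr
    rw [Ideal.map_map] at h4
    rwa [show stalkBase (A := A) y = (X.presheaf.germ U y hy).hom.comp (baseApp X U) from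
      RingHom.ext (stalkBase_eq hy)]
  have h2 := key _ hmem
  rw [QCohMod.germ_smul, ← hm, smul_smul] at h2
  have h3 := Submodule.smul_mem _ (↑(((Scheme.mem_basicOpen X b y hy).1 hb).mul
    ((Scheme.mem_basicOpen X a y hy).1 ha)).unit⁻¹ : (X.presheaf.stalk y : Type u)) h2
  rwa [smul_smul, IsUnit.val_inv_mul, one_smul] at h3

theorem lTensor_mem_smul {R S N N' : Type u} [CommRing R] [CommRing S] [Algebra R S] [AddCommGroup N] [Module R N]
    [AddCommGroup N'] [Module R N'] (π : N →ₗ[R] N') (hπ : Function.Surjective π) (K : Ideal R)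
    (hker : LinearMap.ker π ≤ K • (⊤ : Submodule R N)) (t : S ⊗[R] N) (ht : π.lTensor S t = 0) :
    t ∈ K.map (algebraMap R S) • (⊤ : Submodule S (S ⊗[R] N)) := by
  have hex := lTensor_exact S (LinearMap.exact_subtype_ker_map π) hπ
  obtain ⟨w, rfl⟩ := (hex t).1 ht
  induction w using TensorProduct.induction_on with
  | zero => simp
  | tmul s m =>
    rw [LinearMap.lTensor_tmul]
    suffices H : ∀ x ∈ K • (⊤ : Submodule R N), s ⊗ₜ[R] x ∈ K.map (algebraMap R S) • (⊤ : Submodule S (S ⊗[R] N)) from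
      H _ (hker m.2)
    intro x hx
    refine Submodule.smul_induction_on hx (fun k hk n _ => ?_) fun a b ha hb => by
      rw [tmul_add]; exact add_mem ha hb
    rw [tmul_smul, show k • (s ⊗ₜ[R] n) = algebraMap R S k • (s ⊗ₜ[R] n) from (algebraMap_smul S k _).symm]
    exact Submodule.smul_mem_smul (Ideal.mem_map_of_mem _ hk) Submodule.mem_top
  | add a b ha hb =>
    rw [map_add] at ht ⊢
    exact add_mem (ha ((hex _).2 ⟨a, rfl⟩)) (hb ((hex _).2 ⟨b, rfl⟩))

end Quot

section Main

variable {A : Type u} [CommRing A] {X : Scheme.{u}} [X.Over (Spec (CommRingCat.of A))] {I : Ideal A}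
  [IsLocallyNoetherian X] {Xh : LocallyRingedSpace.{u}} {ι : Xh ⟶ X.toLocallyRingedSpace}
  (hh : HensSch.IsHenselizationAlong X (adicLocus I) Xh ι)

include hh in
/-- The stalks of the inverse image of a coherent module are adically separated. -/
theorem eq_zero_of_forall_mstalkMap (F : X.Modules) (hF : Coh.IsCoh F) (z : Xh) (t : mstalk (gpull ι F) z)
    (h : ∀ n, mstalkMap ((HensSch.pullMod ι).map (Formal.modPowπ I (n + 1) F)) z t = 0) : t = 0 := by
  letI := lrsStalkAlg ι z
  have := hF.1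
  haveI : IsNoetherianRing (Xh.presheaf.stalk z : Type u) := isNoetherianRing_stalk hh z
  haveI := QCohMod.finite_stalk F hF.2 (ι.base z)
  obtain ⟨t, rfl⟩ := (gpullStalkHom_bijective ι F z).2 t
  suffices t = 0 by rw [this, map_zero]
  let S := (Xh.presheaf.stalk z : Type u)
  let L : Ideal S := (I.map (stalkBase (X := X) (ι.base z))).map (ι.stalkMap z).hom
  have hL : L ≠ ⊤ := ne_top_of_le_ne_top (IsLocalRing.maximalIdeal.isMaximal S).ne_top (adic_le_maximalIdeal hh z)
  rw [← Submodule.mem_bot (R := S), ← Ideal.iInf_pow_smul_eq_bot_of_isLocalRing L hL]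
  refine (Submodule.mem_iInf _).2 fun n => ?_
  refine Submodule.smul_mono_left (Ideal.pow_le_pow_right (Nat.le_succ n)) ?_
  have h0 : (RefHull.stalkMapₗ (Formal.modPowπ I (n + 1) F) (ι.base z)).lTensor S t = 0 := by
    apply (gpullStalkHom_bijective ι (Formal.modPow I (n + 1) F) z).1
    rw [map_zero, ← gpullStalkHom_naturality, h n]
  have h1 := lTensor_mem_smul _ (stalkMap_surjective_of_isQuot (isQuot_modPowπ I (n + 1) F) (ι.base z))
    ((I ^ (n + 1)).map (stalkBase (X := X) (ι.base z)))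
    (fun m hm => mem_smul_of_stalkMap_eq_zero (isQuot_modPowπ I (n + 1) F) (ι.base z) hm) t h0
  rwa [RingHom.algebraMap_toAlgebra, Ideal.map_pow, Ideal.map_pow] at h1

include hh in
/-- A module killed by a power of `I` has the same stalks as its inverse image along `Y`. -/
theorem gpullGerm_bijective_of_killed (G : X.Modules) (n : ℕ) (z : Xh)
    (hG : ∀ k ∈ (I ^ n).map (stalkBase (X := X) (ι.base z)), ∀ t : G.presheaf.stalk (ι.base z), k • t = 0) :
    Function.Bijective (gpullGerm ι G z) := by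
  letI := lrsStalkAlg ι z
  refine ⟨gpullGerm_injective hh G z, fun t => ?_⟩
  obtain ⟨t, rfl⟩ := (gpullStalkHom_bijective ι G z).2 t
  induction t using TensorProduct.induction_on with
  | zero => exact ⟨0, by rw [map_zero, map_zero]⟩
  | tmul b t =>
    obtain ⟨a, ha⟩ := exists_sub_mem_adic hh z n b
    refine ⟨a • t, ?_⟩
    have hzero : ∀ k ∈ ((I ^ n).map (stalkBase (X := X) (ι.base z))).map (ι.stalkMap z).hom,
        k • gpullGerm ι G z t = 0 := by
      intro k hk
      refine Submodule.span_induction (p := fun k _ => k • gpullGerm ι G z t = 0) ?_ (zero_smul _ _)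
        (fun _ _ _ _ h₁ h₂ => by rw [add_smul, h₁, h₂, add_zero])
        (fun r _ _ h₁ => by rw [smul_eq_mul, mul_smul, h₁, smul_zero]) hk
      rintro _ ⟨k, hk, rfl⟩
      rw [← gpullGerm_smul, hG k hk t, map_zero]
    rw [gpullStalkHom_tmul, gpullGerm_smul]
    have := hzero _ ha
    rw [sub_smul, sub_eq_zero] at this
    exact this.symm
  | add p q hp hq =>
    obtain ⟨a, ha⟩ := hp
    obtain ⟨b, hb⟩ := hq
    exact ⟨a + b, by rw [map_add, map_add, ha, hb]⟩

end Main

end Groth.HensScheme
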