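import Groth.Agent.HensScheme.Charts
import Groth.Prelude.Def_Hens2

/-!
# The local rings of a henselization are henselizations of pairs
-/

set_option autoImplicit false
set_option backward.isDefEq.respectTransparency.types false
set_option maxHeartbeats 1000000

universe u

open CategoryTheory CategoryTheory.Limits Opposite TopologicalSpace AlgebraicGeometry Polynomial

noncomputable section

namespace Groth.HensScheme

variable {Xh X : LocallyRingedSpace.{u}} (ι : Xh ⟶ X) (z : Xh)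

theorem germ_appR {U : Opens X} (hz : ι.base z ∈ U) (r : (X.presheaf.obj (op U) : Type u)) :
    Xh.presheaf.germ ((Opens.map ι.base).obj U) z hz (appR ι U r) =
      ι.stalkMap z (X.presheaf.germ U (ι.base z) hz r) :=
  (congrArg (fun ψ => ψ.hom r)
    (PresheafedSpace.stalkMap_germ (X := Xh.toPresheafedSpace) (Y := X.toPresheafedSpace) ι.toHom U z hz)).symm

theorem germ_resTo {W : LocallyRingedSpace.{u}} {U V : Opens W} (h : U ≤ V) {x : W} (hx : x ∈ U)
    (r : (W.presheaf.obj (op V) : Type u)) :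
    W.presheaf.germ U x hx (res h r) = W.presheaf.germ V x (h hx) r :=
  TopCat.Presheaf.germ_res_apply W.presheaf (homOfLE h) x hx r

/-- The germs of the sections vanishing on the closed set, as a set. -/
def vanSet : Set (X.presheaf.stalk (ι.base z) : Type u) :=
  {b | ∃ (U : Opens X) (hU : ι.base z ∈ U) (a : (X.presheaf.obj (op U) : Type u)),
    Disjoint (bo a : Set X) (Set.range ι.base) ∧ X.presheaf.germ U (ι.base z) hU a = b}

/-- The ideal of germs vanishing on the closed set. -/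
def vanIdeal : Ideal (X.presheaf.stalk (ι.base z) : Type u) := Ideal.span (vanSet ι z)

theorem stalkMap_mem_maximalIdeal {b : (X.presheaf.stalk (ι.base z) : Type u)} (hb : b ∈ vanSet ι z) :
    ι.stalkMap z b ∈ IsLocalRing.maximalIdeal (Xh.presheaf.stalk z : Type u) := by
  obtain ⟨U, hU, a, ha, rfl⟩ := hb
  intro hu
  have := (isUnit_map_iff (ι.stalkMap z).hom _).1 hu
  exact Set.disjoint_left.1 ha ((X.toRingedSpace.mem_basicOpen a (ι.base z) hU).2 this) ⟨z, rfl⟩

theorem vanIdeal_map_le : (vanIdeal ι z).map (ι.stalkMap z).hom ≤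
    IsLocalRing.maximalIdeal (Xh.presheaf.stalk z : Type u) := by
  rw [vanIdeal, Ideal.map_span, Ideal.span_le]
  rintro _ ⟨b, hb, rfl⟩
  exact stalkMap_mem_maximalIdeal ι z hb

theorem eval_taylor {R : Type u} [CommRing R] (F : R[X]) (a₀ a : R) :
    ∃ r, F.eval a = F.eval a₀ + (a - a₀) * (F.derivative.eval a₀ + (a - a₀) * r) := by
  obtain ⟨k, hk⟩ := F.binomExpansion a₀ (a - a₀)
  exact ⟨k, by rw [add_sub_cancel] at hk; rw [hk]; ring⟩

theorem exists_common_opens {ι₀ : Type} [Finite ι₀] (x : ι₀ → (Xh.presheaf.stalk z : Type u)) :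
    ∃ (W : Opens Xh) (hW : z ∈ W) (s : ι₀ → (Xh.presheaf.obj (op W) : Type u)),
      ∀ i, Xh.presheaf.germ W z hW (s i) = x i := by
  classical
  choose U hU s hs using fun i => TopCat.Presheaf.exists_germ_eq Xh.presheaf (x i)
  let W : Opens Xh := ⟨⋂ i, SetLike.coe (U i), isOpen_iInter_of_finite fun i => (U i).2⟩
  have hW : z ∈ W := Set.mem_iInter.2 hU
  refine ⟨W, hW, fun i => res (Set.iInter_subset (fun i => SetLike.coe (U i)) i) (s i), fun i => ?_⟩
  rw [germ_resTo, hs]

theorem germ_mem_map_vanIdeal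
    (hpiece : ∀ (O : Opens Xh), z ∈ O → ∃ W, Piece W ∧ z ∈ W ∧ W ≤ O)
    {b : (Xh.presheaf.stalk z : Type u)} (hb : b ∈ (vanIdeal ι z).map (ι.stalkMap z).hom) :
    ∃ (W₀ : Opens Xh) (hW₀ : z ∈ W₀) (c : (Xh.presheaf.obj (op W₀) : Type u)),
      Xh.presheaf.germ W₀ z hW₀ c = b ∧
      ∀ (W : Opens Xh) (hle : W ≤ W₀) (J : Ideal (Xh.presheaf.obj (op W) : Type u)),
        (∀ c, bo c = ⊥ → c ∈ J) → res hle c ∈ J := by
  rw [vanIdeal, Ideal.map_span] at hb
  induction hb using Submodule.span_induction with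
  | mem x hx =>
    obtain ⟨_, ⟨U, hU, a, ha, rfl⟩, rfl⟩ := hx
    refine ⟨(Opens.map ι.base).obj U, hU, appR ι U a, germ_appR ι z hU a, fun W hle J hJ => hJ _ ?_⟩
    rw [show bo (res hle (appR ι U a)) = W ⊓ bo (appR ι U a) from basicOpen_resTo hle _, bo_appR]
    exact eq_bot_iff.2 fun x hx => (Set.disjoint_left.1 ha hx.2 ⟨x, rfl⟩).elim
  | zero => exact ⟨⊤, trivial, 0, map_zero _, fun W hle J _ => by rw [map_zero]; exact J.zero_mem⟩
  | add x y _ _ hx hy =>
    obtain ⟨W₁, hW₁, c₁, hc₁, h₁⟩ := hx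
    obtain ⟨W₂, hW₂, c₂, hc₂, h₂⟩ := hy
    refine ⟨W₁ ⊓ W₂, ⟨hW₁, hW₂⟩, res inf_le_left c₁ + res inf_le_right c₂, ?_, fun W hle J hJ => ?_⟩
    · rw [map_add, germ_resTo, germ_resTo, hc₁, hc₂]
    · rw [map_add, res_res, res_res]
      exact J.add_mem (h₁ W _ J hJ) (h₂ W _ J hJ)
  | smul t x _ hx =>
    obtain ⟨W₁, hW₁, c₁, hc₁, h₁⟩ := hx
    obtain ⟨W₂, hW₂, t', ht'⟩ := TopCat.Presheaf.exists_germ_eq Xh.presheaf t
    refine ⟨W₂ ⊓ W₁, ⟨hW₂, hW₁⟩, res inf_le_left t' * res inf_le_right c₁, ?_, fun W hle J hJ => ?_⟩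
    · rw [map_mul, germ_resTo, germ_resTo, hc₁, ht', smul_eq_mul]
    · rw [map_mul, res_res, res_res]
      exact J.mul_mem_left _ (h₁ W _ J hJ)

theorem henselianRing_stalk (hpiece : ∀ (O : Opens Xh), z ∈ O → ∃ W, Piece W ∧ z ∈ W ∧ W ≤ O) :
    HenselianRing (Xh.presheaf.stalk z : Type u) ((vanIdeal ι z).map (ι.stalkMap z).hom) := by
  let Js := (vanIdeal ι z).map (ι.stalkMap z).hom
  have hjac : Js ≤ Ideal.jacobson ⊥ :=
    (vanIdeal_map_le ι z).trans (IsLocalRing.maximalIdeal_le_jacobson ⊥)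
  refine ⟨hjac, fun f hf a₀ h₁ h₂ => ?_⟩
  obtain ⟨W₀, hW₀, c, hc, hcJ⟩ := germ_mem_map_vanIdeal ι z hpiece h₁
  obtain ⟨W₁, hW₁, s, hs⟩ := exists_common_opens z
    (fun k : Option (Fin f.natDegree) => k.elim a₀ fun k => f.coeff k)
  let g₁ := (Xh.presheaf.germ W₁ z hW₁).hom
  let F₁ : (Xh.presheaf.obj (op W₁) : Type u)[X] :=
    Polynomial.X ^ f.natDegree + ∑ k : Fin f.natDegree, C (s (some k)) * Polynomial.X ^ (k : ℕ)
  have hF₁ : F₁.map g₁ = f := by
    conv_rhs => rw [hf.as_sum]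
    simp only [F₁, g₁, Polynomial.map_add, Polynomial.map_pow, Polynomial.map_X, Polynomial.map_sum,
      Polynomial.map_mul, Polynomial.map_C, hs, Option.elim_some, Finset.sum_range]
  have hF₁m : F₁.Monic := monic_X_pow_add ((degree_sum_fin_lt _).trans_le le_rfl)
  have hu : IsUnit (f.derivative.eval a₀) := by
    by_contra hnu
    have h3 := h₂.map (Ideal.Quotient.factor (vanIdeal_map_le ι z))
    rw [Ideal.Quotient.factor_mk, Ideal.Quotient.eq_zero_iff_mem.2 hnu] at h3
    exact not_isUnit_zero h3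
  have hgE : ∀ p : (Xh.presheaf.obj (op W₁) : Type u)[X],
      g₁ (p.eval (s none)) = (p.map g₁).eval a₀ := fun p => by
    rw [Polynomial.eval_map, show a₀ = g₁ (s none) from (hs none).symm, Polynomial.eval₂_at_apply]
  obtain ⟨W₂, hW₂, i₂, i₂', e₂⟩ := TopCat.Presheaf.germ_eq Xh.presheaf z hW₁ hW₀ (F₁.eval (s none)) c
    ((hgE F₁).trans (by rw [hF₁, hc]))
  have hzu : z ∈ bo (F₁.derivative.eval (s none)) :=
    (Xh.toRingedSpace.mem_basicOpen _ z hW₁).2 (by
      change IsUnit (g₁ _)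
      rw [hgE, ← Polynomial.derivative_map, hF₁]
      exact hu)
  obtain ⟨W, ⟨JW, hJW, hbotJ⟩, hzW, hWle⟩ := hpiece (W₂ ⊓ bo (F₁.derivative.eval (s none))) ⟨hW₂, hzu⟩
  have hW₁' : W ≤ W₁ := (hWle.trans inf_le_left).trans i₂.le
  let r := res (X := Xh) hW₁'
  let F := F₁.map r
  let b₀ := r (s none)
  have hrE : ∀ p : (Xh.presheaf.obj (op W₁) : Type u)[X], (p.map r).eval b₀ = r (p.eval (s none)) := fun p => by
    rw [Polynomial.eval_map, Polynomial.eval₂_at_apply]
  have hFb : F.eval b₀ ∈ JW := by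
    rw [hrE]
    have h4 := congrArg (res (X := Xh) (hWle.trans inf_le_left)) (show res i₂.le (F₁.eval (s none)) = res i₂'.le c from e₂)
    rw [res_res, res_res] at h4
    rw [show r (F₁.eval (s none)) = _ from h4]
    exact hcJ W _ JW hbotJ
  have hFu : IsUnit (F.derivative.eval b₀) := by
    rw [Polynomial.derivative_map, hrE]
    refine Xh.toRingedSpace.isUnit_of_isUnit_germ W _ fun x hx => ?_
    have := (Xh.toRingedSpace.mem_basicOpen _ x (hW₁' hx)).1 ((hWle hx).2)
    exact (germ_resTo hW₁' hx (F₁.derivative.eval (s none))).symm ▸ this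
  obtain ⟨a, ha, haJ⟩ := hJW.is_henselian F (hF₁m.map r) b₀ hFb (hFu.map _)
  let g := (Xh.presheaf.germ W z hzW).hom
  have hFg : F.map g = f := by
    rw [Polynomial.map_map, ← hF₁]
    congr 1
    ext x
    exact germ_resTo hW₁' hzW x
  have hgb : g b₀ = a₀ := (germ_resTo hW₁' hzW (s none)).trans (hs none)
  refine ⟨g a, ?_, ?_⟩
  · rw [← hFg, Polynomial.IsRoot, Polynomial.eval_map, Polynomial.eval₂_at_apply, ha.eq_zero, map_zero]
  obtain ⟨q, hq⟩ := eval_taylor F b₀ a
  rw [ha.eq_zero] at hq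
  have hv : IsUnit (F.derivative.eval b₀ + (a - b₀) * q) := by
    obtain ⟨v, hv'⟩ := hFu
    have h6 : (↑v⁻¹ * (F.derivative.eval b₀ + (a - b₀) * q) - 1) ∈ Ideal.jacobson (⊥ : Ideal _) := by
      rw [show (↑v⁻¹ * (F.derivative.eval b₀ + (a - b₀) * q) - 1) = (a - b₀) * (↑v⁻¹ * q) by
        rw [← hv', mul_add, Units.inv_mul]; ring]
      exact Ideal.mul_mem_right _ _ (hJW.jac haJ)
    exact isUnit_of_mul_isUnit_right (Ideal.isUnit_of_sub_one_mem_jacobson_bot _ h6)
  have h5 : g (a - b₀) * g (F.derivative.eval b₀ + (a - b₀) * q) ∈ Js := by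
    have hgFb : g (F.eval b₀) = f.eval a₀ := by
      rw [← hgb, ← Polynomial.eval₂_at_apply, ← Polynomial.eval_map, hFg]
    rw [← map_mul, show (a - b₀) * (F.derivative.eval b₀ + (a - b₀) * q) = -(F.eval b₀) by linear_combination -hq,
      map_neg, hgFb]
    exact neg_mem h₁
  rw [← hgb, ← map_sub]
  exact (Ideal.mul_unit_mem_iff_mem _ (hv.map g)).1 h5

section Universal

variable (hι : Topology.IsEmbedding ι.base)
  (hgood : ∀ (O : Opens X), ι.base z ∈ O → ∃ U', Good ι U' ∧ ι.base z ∈ U' ∧ U' ≤ O)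
  {C : Type u} [CommRing C] (J : Ideal C) [hJ : HenselianRing C J]
  (f : (X.presheaf.stalk (ι.base z) : Type u) →+* C) (hf : (vanIdeal ι z).map f ≤ J)

include hf in
theorem existsUnique_good {U : Opens X} (hU : Good ι U) (hzU : ι.base z ∈ U) :
    ∃! h : (Xh.presheaf.obj (op ((Opens.map ι.base).obj U)) : Type u) →+* C,
      h.comp (appR ι U) = f.comp (X.presheaf.germ U (ι.base z) hzU).hom :=
  hU C J _ hJ fun a ha => hf (Ideal.mem_map_of_mem f (Ideal.subset_span ⟨U, hzU, a, ha, rfl⟩))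

/-- The map on the sections over the preimage of a good open. -/
def goodHom {U : Opens X} (hU : Good ι U) (hzU : ι.base z ∈ U) :
    (Xh.presheaf.obj (op ((Opens.map ι.base).obj U)) : Type u) →+* C :=
  (existsUnique_good ι z J f hf hU hzU).choose

theorem goodHom_res {U V : Opens X} (hU : Good ι U) (hzU : ι.base z ∈ U) (hV : Good ι V) (hzV : ι.base z ∈ V)
    (h : V ≤ U) :
    (goodHom ι z J f hf hV hzV).comp (res ((Opens.map ι.base).map (homOfLE h)).le) =
      goodHom ι z J f hf hU hzU := by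
  refine (existsUnique_good ι z J f hf hU hzU).unique ?_ (existsUnique_good ι z J f hf hU hzU).choose_spec.1
  ext s
  have h1 : ∀ t, goodHom ι z J f hf hV hzV (appR ι V t) = f (X.presheaf.germ V (ι.base z) hzV t) :=
    RingHom.congr_fun (existsUnique_good ι z J f hf hV hzV).choose_spec.1
  show goodHom ι z J f hf hV hzV (res _ (appR ι U s)) = f (X.presheaf.germ U (ι.base z) hzU s)
  rw [show res _ (appR ι U s) = appR ι V (res h s) from (app_res ι h s).symm, h1, germ_resTo]

include hι hgood in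
theorem exists_good_le (W : Opens Xh) (hzW : z ∈ W) :
    ∃ U, Good ι U ∧ ι.base z ∈ U ∧ (Opens.map ι.base).obj U ≤ W := by
  obtain ⟨O, hO, hOeq⟩ := hι.isInducing.isOpen_iff.mp W.2
  obtain ⟨U, hU, hzU, hle⟩ := hgood ⟨O, hO⟩ ((Set.ext_iff.mp hOeq z).mpr hzW)
  exact ⟨U, hU, hzU, fun x hx => (Set.ext_iff.mp hOeq x).mp (hle hx)⟩

/-- The map on sections over a neighbourhood. -/
def nbhdHom (W : Opens Xh) (hzW : z ∈ W) : (Xh.presheaf.obj (op W) : Type u) →+* C :=
  (goodHom ι z J f hf (exists_good_le ι z hι hgood W hzW).choose_spec.1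
    (exists_good_le ι z hι hgood W hzW).choose_spec.2.1).comp
    (res (exists_good_le ι z hι hgood W hzW).choose_spec.2.2)

theorem nbhdHom_eq (W : Opens Xh) (hzW : z ∈ W) {U : Opens X} (hU : Good ι U) (hzU : ι.base z ∈ U)
    (hle : (Opens.map ι.base).obj U ≤ W) :
    nbhdHom ι z hι hgood J f hf W hzW = (goodHom ι z J f hf hU hzU).comp (res hle) := by
  obtain ⟨hU', hzU', hle'⟩ := (exists_good_le ι z hι hgood W hzW).choose_spec
  obtain ⟨V, hV, hzV, hVle⟩ := hgood (_ ⊓ U) ⟨hzU', hzU⟩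
  ext s
  show goodHom ι z J f hf _ _ (res _ s) = goodHom ι z J f hf hU hzU (res hle s)
  rw [← goodHom_res ι z J f hf hU' hzU' hV hzV (hVle.trans inf_le_left),
    ← goodHom_res ι z J f hf hU hzU hV hzV (hVle.trans inf_le_right), RingHom.comp_apply, RingHom.comp_apply,
    res_res, res_res]

theorem nbhdHom_res {W W' : Opens Xh} (hzW : z ∈ W) (hzW' : z ∈ W') (h : W' ≤ W) :
    (nbhdHom ι z hι hgood J f hf W' hzW').comp (res h) = nbhdHom ι z hι hgood J f hf W hzW := by
  obtain ⟨U, hU, hzU, hle⟩ := exists_good_le ι z hι hgood W' hzW'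
  rw [nbhdHom_eq ι z hι hgood J f hf W' hzW' hU hzU hle,
    nbhdHom_eq ι z hι hgood J f hf W hzW hU hzU (hle.trans h), RingHom.comp_assoc]
  congr 1
  ext s
  exact res_res hle h s

/-- The map on the local ring of the henselization. -/
def stalkHom : (Xh.presheaf.stalk z : Type u) →+* C :=
  (colimit.desc ((OpenNhds.inclusion z).op ⋙ Xh.presheaf)
    { pt := CommRingCat.of C
      ι :=
      { app := fun W => CommRingCat.ofHom (nbhdHom ι z hι hgood J f hf W.unop.1 W.unop.2)
        naturality := fun W W' i => by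
          ext s
          exact RingHom.congr_fun (nbhdHom_res ι z hι hgood J f hf W.unop.2 W'.unop.2
            (leOfHom ((OpenNhds.inclusion z).map i.unop))) s } }).hom

theorem stalkHom_germ {W : Opens Xh} (hzW : z ∈ W) (s : (Xh.presheaf.obj (op W) : Type u)) :
    stalkHom ι z hι hgood J f hf (Xh.presheaf.germ W z hzW s) = nbhdHom ι z hι hgood J f hf W hzW s :=
  ConcreteCategory.congr_hom (colimit.ι_desc
    (F := (OpenNhds.inclusion z).op ⋙ Xh.presheaf) _ (op ⟨W, hzW⟩)) s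

include hι hgood hf in
theorem existsUnique_stalkHom :
    ∃! g : (Xh.presheaf.stalk z : Type u) →+* C, g.comp (ι.stalkMap z).hom = f := by
  refine ⟨stalkHom ι z hι hgood J f hf, ?_, fun g (hg : g.comp _ = f) => ?_⟩
  · ext b
    obtain ⟨U₀, hzU₀, a, rfl⟩ := TopCat.Presheaf.exists_germ_eq X.presheaf b
    obtain ⟨U, hU, hzU, hle⟩ := hgood U₀ hzU₀
    rw [RingHom.comp_apply, ← germ_resTo hle hzU a, ← germ_appR ι z hzU, stalkHom_germ,
      nbhdHom_eq ι z hι hgood J f hf _ _ hU hzU le_rfl, RingHom.comp_apply, res_self]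
    exact RingHom.congr_fun (existsUnique_good ι z J f hf hU hzU).choose_spec.1 (res hle a)
  · ext b
    obtain ⟨W, hzW, s, rfl⟩ := TopCat.Presheaf.exists_germ_eq Xh.presheaf b
    obtain ⟨U, hU, hzU, hle⟩ := exists_good_le ι z hι hgood W hzW
    have key : g.comp (Xh.presheaf.germ ((Opens.map ι.base).obj U) z hzU).hom = goodHom ι z J f hf hU hzU :=
      (existsUnique_good ι z J f hf hU hzU).unique
        (RingHom.ext fun a => (congrArg g (germ_appR ι z hzU a)).trans (RingHom.congr_fun hg _))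
        (existsUnique_good ι z J f hf hU hzU).choose_spec.1
    rw [stalkHom_germ, nbhdHom_eq ι z hι hgood J f hf W hzW hU hzU hle, RingHom.comp_apply, ← key]
    exact congrArg g (germ_resTo hle hzU s).symm

end Universal

/-- The local ring of a henselization is the henselization of the pair formed by the local ring of the
scheme and the germs vanishing on the closed set. -/
theorem isPairHenselization_stalk {X : Scheme.{u}} {Y : Set X} {Xh : LocallyRingedSpace.{u}}
    {ι : Xh ⟶ X.toLocallyRingedSpace} (hh : HensSch.IsHenselizationAlong X Y Xh ι) (z : Xh) :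
    letI := (ι.stalkMap z).hom.toAlgebra
    Hens2.IsPairHenselization (X.toLocallyRingedSpace.presheaf.stalk (ι.base z) : Type u) (vanIdeal ι z)
      (Xh.presheaf.stalk z : Type u) :=
  letI := (ι.stalkMap z).hom.toAlgebra
  ⟨henselianRing_stalk ι z (exists_piece_of_isHenselizationAlong hh z),
    fun _ _ J f hJ hf => existsUnique_stalkHom ι z hh.2.1
      (fun O hO => exists_good hh _ O ⟨z, rfl⟩ hO) (hJ := hJ) J f hf⟩

end Groth.HensScheme
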